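import Cfsg.Agent.Lib.Recog.ThreeCentSp.Cert.Words
import Cfsg.Agent.Lib.Spor.Cos.SpSixCert.A2Cert
import Cfsg.Agent.Lib.Spor.Cos.SpSixCert.A3Cert
import Cfsg.Agent.Lib.Spor.Cos.SpSixCert.A4Cert
import Cfsg.Agent.Lib.Spor.Cos.SpSixCert.A5Cert
import Cfsg.Agent.Lib.Spor.Cos.SpSixCert.X8Cert
import Cfsg.Agent.Lib.Spor.Cos.SpSixCert.T10Cert

/-! The coset enumerations: at most `51840` elements for five involutions, `1451520` for six. -/

set_option autoImplicit false
set_option maxRecDepth 100000

namespace Cfsg.Agent.Recog.ThreeCentSp.Cert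

open Cfsg.Agent.Spor.Cos (Bound val singles)
open Cfsg.Agent.Spor.Cos.SpSixCert

variable {X : Type*} [Group X] {g : ℕ → X}

/-- all letters below the given number -/
abbrev lt' (n : ℕ) : List ℕ := List.range n

theorem map_range {n : ℕ} : ∀ w : List ℕ, below n w = true → (w.map fun i => (List.range n).getD i n) = w
  | [], _ => rfl
  | s :: w, h => by
    simp only [below, List.all_cons, Bool.and_eq_true, Nat.blt_eq] at h
    rw [List.map_cons, map_range w h.2, List.getD_eq_getElem _ _ (by simpa using h.1), List.getElem_range]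

theorem step {n k : ℕ} (hinv : ∀ s, g s * g s = 1) {L' : List ℕ} (h' : Bound g L' k)
    (C : Cfsg.Agent.Spor.Cos.Log) (hc : C.Checks) (hn : C.n = n)
    (hsub : C.sub.all (fun w => w.all fun i => L'.contains ((List.range n).getD i n)) = true)
    {base : List (List ℕ)} (hbase : ∀ w ∈ base, Cfsg.Agent.Spor.Cos.ev g w = 1)
    (hder : C.rels.all (Cfsg.Agent.Spor.Cos.derivedOk C.n (base.filter (below n))) = true) :
    Bound g (List.range n) (C.N * k) :=
  Bound.step hinv h' C hc (by rw [hn, List.length_range]) hsub (base := base.filter (below n))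
    (fun w hw => by
      rw [map_range w (List.mem_filter.1 hw).2]
      exact hbase w (List.mem_filter.1 hw).1)
    hder

theorem bound_five (hinv : ∀ s, g s * g s = 1) (hb : ∀ w ∈ baseS, Cfsg.Agent.Spor.Cos.ev g w = 1) :
    Bound g (List.range 5) 51840 := by
  have h2 := step (n := 2) hinv (L' := []) Bound.nil a2 a2_checks rfl (by decide +kernel) hb (by decide +kernel)
  have h3 := step (n := 3) hinv h2 a3 a3_checks rfl (by decide +kernel) hb (by decide +kernel)
  have h4 := step (n := 4) hinv h3 a4 a4_checks rfl (by decide +kernel) hb (by decide +kernel)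
  exact step (n := 5) hinv h4 a5 a5_checks rfl (by decide +kernel) hb (by decide +kernel)

/-- the reflections of the other two coordinates as extra letters -/
def extend (g : ℕ → X) (i : ℕ) : X :=
  match i with
  | 6 => Cfsg.Agent.Spor.Cos.ev g [2, 0, 2]
  | 7 => Cfsg.Agent.Spor.Cos.ev g [2, 1, 2]
  | 8 => Cfsg.Agent.Spor.Cos.ev g [3, 2, 0, 2, 3]
  | 9 => Cfsg.Agent.Spor.Cos.ev g [3, 2, 1, 2, 3]
  | i => g i

/-- the letters of the normaliser of the first axis -/
abbrev xL : List ℕ := [0, 1, 6, 7, 8, 9, 3, 5]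

/-- all letters -/
abbrev allL : List ℕ := List.range 10

theorem ev_extend : ∀ w : List ℕ, below 6 w = true →
    Cfsg.Agent.Spor.Cos.ev (extend g) w = Cfsg.Agent.Spor.Cos.ev g w
  | [], _ => rfl
  | s :: w, h => by
    simp only [below, List.all_cons, Bool.and_eq_true, Nat.blt_eq] at h
    simp only [Cfsg.Agent.Spor.Cos.ev]
    rw [ev_extend w h.2]
    congr 1
    obtain ⟨hs, -⟩ := h
    interval_cases s <;> rfl

theorem extend_sq (hinv : ∀ s, g s * g s = 1) (i : ℕ) : extend g i * extend g i = 1 := by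
  have key : ∀ v : List ℕ, v.reverse = v → Cfsg.Agent.Spor.Cos.ev g v * Cfsg.Agent.Spor.Cos.ev g v = 1 := by
    intro v hv
    nth_rewrite 2 [← hv]
    rw [Cfsg.Agent.Spor.Cos.ev_reverse (n := v.sum + 1) (fun s _ => hinv s) v fun s hs => by
      have := List.single_le_sum (fun x _ => Nat.zero_le x) s hs
      omega, mul_inv_cancel]
  unfold extend
  split <;> first | exact key _ rfl | exact hinv _

theorem flat_letters : ∀ k < 8, Cfsg.Agent.Spor.Cos.ev (extend g) [xL.getD k 0] =
    Cfsg.Agent.Spor.Cos.ev g (alphaX.getD k []) := by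
  intro k hk
  interval_cases k <;> simp [Cfsg.Agent.Spor.Cos.ev, extend, xL, alphaX]

theorem ev_xL : ∀ w : List ℕ, below 8 w = true →
    Cfsg.Agent.Spor.Cos.ev (extend g) (w.map fun k => xL.getD k 8) = Cfsg.Agent.Spor.Cos.ev g (flat alphaX w)
  | [], _ => rfl
  | k :: w, h => by
    simp only [below, List.all_cons, Bool.and_eq_true, Nat.blt_eq] at h
    have e : flat alphaX (k :: w) = alphaX.getD k [] ++ flat alphaX w := by simp [flat]
    rw [e, Cfsg.Agent.Spor.Cos.ev_append, ← flat_letters k h.1, ← ev_xL w h.2, List.map_cons,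
      show xL.getD k 8 = xL.getD k 0 from by
        rw [List.getD_eq_getElem _ _ (by simpa [xL] using h.1), List.getD_eq_getElem _ _ (by simpa [xL] using h.1)]]
    simp [Cfsg.Agent.Spor.Cos.ev]

/-- the top relations in ten letters -/
def baseT : List (List ℕ) :=
  relJ ++ relA.map (flat alphaA) ++ relX.map (fun w => w.map fun k => xL.getD k 8) ++
    (relR.map fun u => comW wR (flat alphaA u)) ++ [[6, 2, 0, 2], [7, 2, 1, 2], [8, 3, 6, 3], [9, 3, 7, 3]]

theorem small_rels : (relJ ++ relA.map (flat alphaA) ++ relR.map fun u => comW wR (flat alphaA u)).all (below 6) &&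
    relX.all (below 8) = true := by decide +kernel

theorem ev_baseT (hinv : ∀ s, g s * g s = 1) (hb : ∀ w ∈ baseF, Cfsg.Agent.Spor.Cos.ev g w = 1) :
    ∀ w ∈ baseT, Cfsg.Agent.Spor.Cos.ev (extend g) w = 1 := by
  have hs := small_rels
  simp only [Bool.and_eq_true, List.all_eq_true, List.mem_append, decide_eq_true_eq] at hs
  intro w hw
  simp only [baseT, List.mem_append, List.mem_map] at hw
  rcases hw with (((hw | hw) | ⟨u, hu, rfl⟩) | hw) | hw
  · rw [ev_extend w (hs.1 w (Or.inl (Or.inl hw)))]
    exact hb w (by simp [baseF, hw])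
  · rw [ev_extend w (hs.1 w (Or.inl (Or.inr (List.mem_map.2 hw))))]
    refine hb w ?_
    simp only [baseF, List.mem_append, List.mem_map]
    exact Or.inl (Or.inl (Or.inr hw))
  · rw [ev_xL u (hs.2 u hu)]
    refine hb _ ?_
    simp only [baseF, List.mem_append, List.mem_map]
    exact Or.inl (Or.inr ⟨u, hu, rfl⟩)
  · rw [ev_extend w (hs.1 w (Or.inr (List.mem_map.2 hw)))]
    refine hb w ?_
    simp only [baseF, List.mem_append, List.mem_map]
    exact Or.inr hw
  · simp only [List.mem_cons, List.not_mem_nil, or_false] at hw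
    have h2 : g 2 * g 2 = 1 := hinv 2
    have h3 : g 3 * g 3 = 1 := hinv 3
    have hq : ∀ a : X, a * a = 1 → ∀ b, a * (a * b) = b := fun a ha b => by rw [← mul_assoc, ha, one_mul]
    rcases hw with rfl | rfl | rfl | rfl <;>
      simp only [Cfsg.Agent.Spor.Cos.ev, extend, mul_one, mul_assoc] <;>
      simp [hq, hinv]

theorem bound_six (hinv : ∀ s, g s * g s = 1) (hb : ∀ w ∈ baseF, Cfsg.Agent.Spor.Cos.ev g w = 1) :
    Bound (extend g) allL 1451520 := by
  have hinv' := extend_sq hinv
  have hT := ev_baseT hinv hb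
  have h2 : Bound (extend g) (List.range 2) (a2.N * 1) :=
    step (n := 2) hinv' (L' := []) Bound.nil a2 a2_checks rfl (by decide +kernel) hT (by decide +kernel)
  have hX : Bound (extend g) xL (x8.N * (a2.N * 1)) :=
    Bound.step (d := 8) hinv' h2 x8 x8_checks rfl (by decide +kernel) (base := relX)
      (fun w hw => hT _ (by
        simp only [baseT, List.mem_append, List.mem_map]
        exact Or.inl (Or.inl (Or.inr ⟨w, hw, rfl⟩))))
      (by decide +kernel)
  exact step (n := 10) hinv' hX t10 t10_checks rfl (by decide +kernel) hT (by decide +kernel)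

end Cfsg.Agent.Recog.ThreeCentSp.Cert
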