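import Cfsg.Agent.Lib.Classical.SpSix.Two

/-!
Elements of the symplectic group in dimension six over two elements as numbers: the numbers of the images of
the six unit vectors, written in base `64`.
-/

set_option autoImplicit false
set_option maxRecDepth 100000

open Matrix
open Cfsg.Agent.Classical (sympTv)
open Cfsg.Agent.Classical.SpSix (G0 V num num_lt num_vec vec_num tvN tvN_apply pos)

namespace Cfsg.Agent.Recog.ThreeCentSp.Cert

open Cfsg.Agent.Classical

/-- the image of the vector `2 ^ b` -/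
def col (x b : ℕ) : ℕ := (x >>> (6 * b)) % 64

/-- the image of a vector, reading the first bits only -/
def appK (x v : ℕ) : ℕ → ℕ
  | 0 => 0
  | k + 1 => bif Nat.beq ((v >>> k) % 2) 1 then appK x v k ^^^ col x k else appK x v k

/-- the image of a vector -/
def app (x v : ℕ) : ℕ := appK x v 6

/-- the number of six images -/
def packK (f : ℕ → ℕ) : ℕ → ℕ
  | 0 => 0
  | k + 1 => packK f k + (f k) <<< (6 * k)

/-- the number of six images -/
def pack (f : ℕ → ℕ) : ℕ := packK f 6

/-- the product of two elements -/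
def mulN (x y : ℕ) : ℕ := pack fun b => app x (col y b)

/-- the number of the identity -/
def oneN : ℕ := 34630287489

theorem oneN_eq : oneN = pack fun b => 2 ^ b := by decide +kernel

theorem col_pack (f : ℕ → ℕ) (hf : ∀ b < 6, f b < 64) : ∀ b < 6, col (pack f) b = f b := by
  have h0 := hf 0 (by norm_num); have h1 := hf 1 (by norm_num); have h2 := hf 2 (by norm_num)
  have h3 := hf 3 (by norm_num); have h4 := hf 4 (by norm_num); have h5 := hf 5 (by norm_num)
  intro b hb
  interval_cases b <;> simp only [col, pack, packK, Nat.shiftLeft_eq, Nat.shiftRight_eq_div_pow] <;> omega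

/-- the number of an element -/
irreducible_def code (A : G0) : ℕ := pack fun b => num ((A : Matrix (Fin 3 ⊕ Fin 3) (Fin 3 ⊕ Fin 3) (ZMod 2)) *ᵥ SpSix.vec (2 ^ b))

theorem vec_xor (m n : ℕ) : SpSix.vec (m ^^^ n) = SpSix.vec m + SpSix.vec n := by
  funext i
  show (if (m ^^^ n).testBit (pos i) = true then (1 : ZMod 2) else 0) =
    (if m.testBit (pos i) = true then 1 else 0) + (if n.testBit (pos i) = true then 1 else 0)
  rw [Nat.testBit_xor]
  cases m.testBit (pos i) <;> cases n.testBit (pos i) <;> decide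

theorem num_add (x y : V) : num (x + y) = num x ^^^ num y := by
  have h : num x ^^^ num y < 2 ^ 6 := Nat.xor_lt_two_pow (num_lt x) (num_lt y)
  have e := vec_xor (num x) (num y)
  rw [vec_num, vec_num] at e
  rw [← e, num_vec _ h]

theorem col_code (A : G0) {b : ℕ} (hb : b < 6) :
    col (code A) b = num ((A : Matrix (Fin 3 ⊕ Fin 3) (Fin 3 ⊕ Fin 3) (ZMod 2)) *ᵥ SpSix.vec (2 ^ b)) := by
  rw [code_def]
  exact col_pack _ (fun _ _ => num_lt _) b hb

theorem bit_step : ∀ v < 64, ∀ k < 6, v % 2 ^ (k + 1) =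
    bif Nat.beq ((v >>> k) % 2) 1 then (v % 2 ^ k) ^^^ (2 ^ k) else v % 2 ^ k := by decide +kernel

theorem app_code (A : G0) {v : ℕ} (hv : v < 64) :
    app (code A) v = num ((A : Matrix (Fin 3 ⊕ Fin 3) (Fin 3 ⊕ Fin 3) (ZMod 2)) *ᵥ SpSix.vec v) := by
  suffices h : ∀ k ≤ 6, appK (code A) v k =
      num ((A : Matrix (Fin 3 ⊕ Fin 3) (Fin 3 ⊕ Fin 3) (ZMod 2)) *ᵥ SpSix.vec (v % 2 ^ k)) by
    rw [app, h 6 le_rfl, Nat.mod_eq_of_lt (by norm_num; exact hv)]
  intro k hk
  induction k with
  | zero =>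
    have e : SpSix.vec (v % 2 ^ 0) = 0 := by
      funext i; simp [SpSix.vec, Nat.mod_one]
    rw [e, Matrix.mulVec_zero]; rfl
  | succ k ih =>
    rw [bit_step v hv k (by omega), appK]
    cases Nat.beq ((v >>> k) % 2) 1
    · exact ih (by omega)
    · simp only [cond_true]
      rw [ih (by omega), col_code A (by omega), vec_xor, Matrix.mulVec_add, num_add]

theorem code_mul (A B : G0) : code (A * B) = mulN (code A) (code B) := by
  have h : ∀ b < 6, num (((A * B : G0) : Matrix (Fin 3 ⊕ Fin 3) (Fin 3 ⊕ Fin 3) (ZMod 2)) *ᵥ SpSix.vec (2 ^ b)) =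
      app (code A) (col (code B) b) := by
    intro b hb
    rw [col_code B hb, app_code A (num_lt _), vec_num, Submonoid.coe_mul, Matrix.mulVec_mulVec]
  rw [code_def, mulN]
  simp only [pack, packK]
  rw [h 0 (by norm_num), h 1 (by norm_num), h 2 (by norm_num), h 3 (by norm_num), h 4 (by norm_num),
    h 5 (by norm_num)]

theorem code_one : code 1 = oneN := by
  have h : ∀ b < 6, num (((1 : G0) : Matrix (Fin 3 ⊕ Fin 3) (Fin 3 ⊕ Fin 3) (ZMod 2)) *ᵥ SpSix.vec (2 ^ b)) = 2 ^ b := by
    intro b hb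
    rw [Submonoid.coe_one, Matrix.one_mulVec, num_vec _ (by interval_cases b <;> norm_num)]
  rw [code_def, oneN_eq]
  simp only [pack, packK]
  rw [h 0 (by norm_num), h 1 (by norm_num), h 2 (by norm_num), h 3 (by norm_num), h 4 (by norm_num),
    h 5 (by norm_num)]

theorem code_injective : Function.Injective code := by
  intro A B h
  refine Subtype.ext (Matrix.ext_of_mulVec_single fun i => ?_)
  have hi : ∀ j : Fin 3 ⊕ Fin 3, pos j < 6 ∧ SpSix.vec (2 ^ pos j) = Pi.single j 1 := by decide +kernel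
  obtain ⟨h1, h2⟩ := hi i
  have e := congrArg (fun n => SpSix.vec (col n (pos i))) h
  simp only [col_code _ h1, vec_num] at e
  rwa [← h2]

/-- the number of a transvection -/
def tvC (n : ℕ) : ℕ :=
  pack fun b => num (SpSix.vec (2 ^ b) + Cfsg.sympForm 3 (ZMod 2) (SpSix.vec (2 ^ b)) (SpSix.vec n) • SpSix.vec n)

theorem code_tvN (n : ℕ) : code (tvN n) = tvC n := by
  simp only [code_def, tvC, tvN_apply]

end Cfsg.Agent.Recog.ThreeCentSp.Cert
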