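import Cfsg.Agent.Lib.Spor.Cos.Tree
import Cfsg.Agent.Lib.Recog.ThreeCentSp.Cert.Code

/-! The format of the certificates about involutions and Sylow subgroups. -/

set_option autoImplicit false

namespace Cfsg.Agent.Recog.ThreeCentSp.Cert

open Cfsg.Agent.Spor.Cos (Table force)

/-- The numbers of the six involutions of the model. -/
def mC (i : ℕ) : ℕ :=
  [34630549633, 34630287497, 34498166850, 17718845697, 30782504830, 41173401729].getD i oneN

/-- The number of a word. -/
def evN (mc : ℕ → ℕ) : List ℕ → ℕ
  | [] => oneN
  | s :: w => force (evN mc w) fun x => mulN (mc s) x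

/-- powers -/
def powN (x : ℕ) : ℕ → ℕ
  | 0 => oneN
  | k + 1 => force (powN x k) fun y => mulN x y

/-- commuting -/
def comN (x y : ℕ) : Bool := Nat.beq (mulN x y) (mulN y x)

/-- A list of different numbers, with a proof that they differ. -/
structure Distinct where
  /-- the numbers -/
  tbl : Table
  /-- the same in increasing order -/
  srt : Table
  /-- places in the ordered list -/
  pos : Table
  /-- inverse of the places -/
  back : Table

/-- the places are right -/
def Distinct.chk (D : Distinct) (M k : ℕ) : Bool :=
  force (D.pos.at k) fun p => Nat.blt p M && Nat.beq (D.srt.at p) (D.tbl.at k) && Nat.beq (D.back.at p) k &&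
    (Nat.beq (k + 1) M || Nat.blt (D.srt.at k) (D.srt.at (k + 1)))

/-- A subgroup given by generators and all its elements. -/
structure Sub where
  /-- generators as words -/
  gens : List (List ℕ)
  /-- number of elements -/
  M : ℕ
  /-- the elements -/
  el : Distinct
  /-- parent and generator, as `16 * parent + generator` -/
  par : Table
  /-- products with generators at `k * gens.length + i` -/
  mult : Table

/-- the parents -/
def Sub.chkPar (P : Sub) (gc : List ℕ) (k : ℕ) : Bool :=
  force (P.par.at k) fun q =>
    bif Nat.beq k 0 then Nat.beq (P.el.tbl.at k) oneN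
    else Nat.blt (q / 16) k && Nat.blt (q % 16) gc.length &&
      Nat.beq (P.el.tbl.at k) (mulN (P.el.tbl.at (q / 16)) (gc.getD (q % 16) oneN))

/-- closure under the generators -/
def Sub.chkMul (P : Sub) (gc : List ℕ) (k : ℕ) : Bool :=
  (List.range gc.length).all fun i => force (P.mult.at (k * gc.length + i)) fun t =>
    Nat.blt t P.M && Nat.beq (mulN (P.el.tbl.at k) (gc.getD i oneN)) (P.el.tbl.at t)

/-- all checks of a subgroup -/
def Sub.chk (P : Sub) (gc : List ℕ) (k : ℕ) : Bool := P.el.chk P.M k && P.chkPar gc k && P.chkMul gc k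

/-- All involutions of the model, with their classes. -/
structure Inv where
  /-- number of generators -/
  n : ℕ
  /-- number of involutions -/
  nI : ℕ
  /-- the involutions -/
  inv : Distinct
  /-- parent and conjugating generator, as `8 * parent + generator` -/
  par : Table
  /-- conjugates by generators at `k * n + s` -/
  conj : Table
  /-- classes -/
  cls : Table
  /-- representatives of the classes, indices and words -/
  roots : List (ℕ × List ℕ)

/-- an involution comes from its class representative -/
def Inv.chkPar (I : Inv) (k : ℕ) : Bool :=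
  force (I.par.at k) fun q => force (I.inv.tbl.at k) fun x =>
    bif Nat.beq (q % 8) I.n then
      Nat.blt (I.cls.at k) I.roots.length && Nat.beq ((I.roots.getD (I.cls.at k) (0, [])).1) k &&
        Nat.beq x (evN mC (I.roots.getD (I.cls.at k) (0, [])).2) &&
        (I.roots.getD (I.cls.at k) (0, [])).2.all (fun s => Nat.blt s I.n)
    else Nat.blt (q / 8) k && Nat.blt (q % 8) I.n && Nat.beq (I.cls.at (q / 8)) (I.cls.at k) &&
      Nat.beq x (mulN (mulN (mC (q % 8)) (I.inv.tbl.at (q / 8))) (mC (q % 8)))

/-- closure under conjugation -/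
def Inv.chkConj (I : Inv) (k : ℕ) : Bool :=
  force (I.inv.tbl.at k) fun x => Nat.beq (mulN x x) oneN && !Nat.beq x oneN &&
    (List.range I.n).all fun s => force (I.conj.at (k * I.n + s)) fun t =>
      Nat.blt t I.nI && Nat.beq (I.cls.at t) (I.cls.at k) && Nat.beq (mulN (mulN (mC s) x) (mC s)) (I.inv.tbl.at t)

/-- all checks of an involution -/
def Inv.chk (I : Inv) (k : ℕ) : Bool := I.inv.chk I.nI k && I.chkPar k && I.chkConj k

/-- every involution of a subgroup is listed -/
def Inv.chkTwo (I : Inv) (P : Sub) (hit : Table) (k : ℕ) : Bool :=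
  force (P.el.tbl.at k) fun x => Nat.beq x oneN || !Nat.beq (mulN x x) oneN ||
    force (hit.at k) fun t => Nat.blt t I.nI && Nat.beq x (I.inv.tbl.at t)

/-- a nontrivial element of odd order produces an involution in the normal closure -/
def Inv.chkOdd (I : Inv) (P : Sub) (wit : List (ℕ × List ℕ × ℕ × ℕ)) (k : ℕ) : Bool :=
  Nat.beq (P.el.tbl.at k) oneN || force (P.el.tbl.at k) fun x =>
    (fun w : ℕ × List ℕ × ℕ × ℕ =>
      w.2.1.all (fun s => Nat.blt s I.n) && Nat.blt w.2.2.2 I.nI &&
        Nat.beq (powN (mulN x (mulN (mulN (evN mC w.2.1) (powN x w.1)) (evN mC w.2.1.reverse))) w.2.2.1)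
          (I.inv.tbl.at w.2.2.2)) (wit.getD (k - 1) (0, [], 0, 0))

/-- each representative leads to the first axis -/
def Inv.chkAxis (I : Inv) (cw : List (List (List ℕ))) : Bool :=
  (List.range I.roots.length).all fun c =>
    (fun ws : List (List ℕ) => ws.all (fun w => w.all fun s => Nat.blt s I.n) &&
      Nat.beq (ws.foldr (fun w acc => mulN (mulN (mulN (evN mC w) (evN mC (I.roots.getD c (0, [])).2)) (evN mC w.reverse))
        acc) oneN) (mulN (mC 0) (mC 1))) (cw.getD c [])

end Cfsg.Agent.Recog.ThreeCentSp.Cert
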