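import Mathlib

/-!
Spreading control of centralisers: a subgroup `H` of a finite group contains the centraliser of a set `E` of
commuting involutions of `H` when it has involutions `j`, `u` centralising `E` that are unfused in a strong sense.
-/

set_option autoImplicit false

namespace Cfsg.Agent.Recog.ThreeCentSp.Cert

variable {G : Type*} [Group G] [Finite G]

/-- The centraliser of a set of elements lies in `H`. -/
def Inside (H : Subgroup G) (E : Set G) : Prop := ∀ y : G, (∀ e ∈ E, y * e = e * y) → y ∈ H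

/-- Only elements of `H` move `x` into `H`. -/
def Good (H : Subgroup G) (x : G) : Prop := ∀ y : G, y * x * y⁻¹ ∈ H → y ∈ H

theorem Inside.mono {H : Subgroup G} {E E' : Set G} (h : Inside H E')
    (hsub : ∀ y : G, (∀ e ∈ E, y * e = e * y) → ∀ e ∈ E', y * e = e * y) : Inside H E :=
  fun y hy => h y (hsub y hy)

/-- The step of the induction. -/
theorem inside_step {H : Subgroup G} {E : Set G} (hone : (1 : G) ∈ E) (hE2 : ∀ e ∈ E, e * e = 1)
    (hEH : ∀ e ∈ E, e ∈ H) {j u s : G} (hj : j ∈ H) (hj2 : j * j = 1) (hjC : ∀ e ∈ E, j * e = e * j)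
    (hjE : j ∉ E) (hu : u ∈ H) (hu2 : u * u = 1) (huC : ∀ e ∈ E, u * e = e * u) (hug : Good H u)
    (hsC : ∀ e ∈ E, s * e = e * s) (hsj : s * j = j * s) (hsg : Good H s)
    (ha : ∀ c ∈ H, (∀ e ∈ E, c * e = e * c) → ∀ e ∈ E, c * u * c⁻¹ ≠ j * e)
    (hb : ∀ c ∈ H, (∀ e ∈ E, c * e = e * c) → ∀ e ∈ E, e ≠ 1 → c * j * c⁻¹ ≠ j * e)
    (hd : ∀ k ∈ H, k * k = 1 → k ∉ E → (∀ e ∈ E, k * e = e * k) → k * j = j * k → Inside H (insert k E)) :
    Inside H E := by
  have hdj : ∀ y : G, (∀ e ∈ E, y * e = e * y) → y * j = j * y → y ∈ H := fun y hy hyj =>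
    hd j hj hj2 hjE hjC rfl y fun e he => by
      rcases he with rfl | he
      · exact hyj
      · exact hy e he
  intro h hh
  by_contra hhH
  obtain ⟨t, ht⟩ : ∃ t, t = h * u * h⁻¹ := ⟨_, rfl⟩
  have htH : t ∉ H := fun ht' => hhH (hug h (ht ▸ ht'))
  have ht2 : t * t = 1 := by
    rw [ht, show h * u * h⁻¹ * (h * u * h⁻¹) = h * (u * u) * h⁻¹ by group, hu2, mul_one, mul_inv_cancel]
  have htC : ∀ e ∈ E, Commute t e := fun e he =>
    ht ▸ ((Commute.mul_left (hh e he) (huC e he)).mul_left (Commute.inv_left (hh e he)))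
  obtain ⟨p, hp⟩ : ∃ p, p = j * t := ⟨_, rfl⟩
  have hpC : ∀ e ∈ E, Commute p e := fun e he => hp ▸ Commute.mul_left (hjC e he) (htC e he)
  have hji : j⁻¹ = j := inv_eq_of_mul_eq_one_right hj2
  have hti : t⁻¹ = t := inv_eq_of_mul_eq_one_right ht2
  have hjp : ∀ k : ℕ, j * p ^ k * j = (p ^ k)⁻¹ := by
    intro k
    have h1 : p⁻¹ = j * p * j⁻¹ := by
      rw [hp, mul_inv_rev, hji, hti, ← mul_assoc j j t, hj2, one_mul]
    rw [← inv_pow, h1, conj_pow, hji]
  have htp : ∀ k : ℕ, t * p ^ k * t = (p ^ k)⁻¹ := by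
    intro k
    have h1 : p⁻¹ = t * p * t⁻¹ := by
      rw [hp, mul_inv_rev, hji, hti, mul_assoc, mul_assoc j t t, ht2, mul_one]
    rw [← inv_pow, h1, conj_pow, hti]
  classical
  have hex : ∃ n, 0 < n ∧ p ^ n ∈ E :=
    ⟨orderOf p, orderOf_pos p, by rw [pow_orderOf_eq_one]; exact hone⟩
  set n := Nat.find hex with hn
  obtain ⟨hnpos, hnE⟩ := Nat.find_spec hex
  rcases Nat.even_or_odd' n with ⟨m, hm | hm⟩
  · obtain ⟨f, hf⟩ : ∃ f, f = p ^ m := ⟨_, rfl⟩
    have hf2 : f * f ∈ E := by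
      rw [hf, ← pow_add]
      convert hnE using 2
      omega
    have hfE : f ∉ E := fun hfE => Nat.find_min hex (show m < n by omega) ⟨by omega, hf ▸ hfE⟩
    have hfC : ∀ e ∈ E, f * e = e * f := fun e he => by rw [hf]; exact (hpC e he).pow_left m
    have hfj : j * f * j = f⁻¹ := hf ▸ hjp m
    have hft : t * f * t = f⁻¹ := hf ▸ htp m
    by_cases he : f * f = 1
    · have hfi : f⁻¹ = f := inv_eq_of_mul_eq_one_right he
      have hcomm : ∀ a : G, a * a = 1 → a * f * a = f⁻¹ → f * a = a * f := by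
        intro a ha1 ha2
        rw [hfi] at ha2
        calc f * a = a * f * a * a := by rw [ha2]
          _ = a * f := by rw [mul_assoc, ha1, mul_one]
      have hfH : f ∈ H := hdj f hfC (hcomm j hj2 hfj)
      exact htH (hd f hfH he hfE hfC (hcomm j hj2 hfj) t fun e he' => by
        rcases he' with rfl | he'
        · exact (hcomm t ht2 hft).symm
        · exact htC e he')
    · have hfjc : f * j * f⁻¹ = j * (f * f)⁻¹ := by
        have h1 : f * j = j * f⁻¹ := by
          rw [← hfj, ← mul_assoc, ← mul_assoc, hj2, one_mul]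
        rw [h1, mul_assoc, ← mul_inv_rev]
      have hee : (f * f)⁻¹ = f * f := inv_eq_of_mul_eq_one_right (hE2 _ hf2)
      rw [hee] at hfjc
      have hs2 : f * s * f⁻¹ ∈ H := by
        refine hdj _ (fun e he' => ((Commute.mul_left (hfC e he') (hsC e he')).mul_left
          (Commute.inv_left (hfC e he')))) ?_
        have h1 : Commute (f * s * f⁻¹) (f * j * f⁻¹) := (Commute.conj_iff f).2 hsj
        rw [hfjc] at h1
        have h2 : Commute (f * s * f⁻¹) (f * f) := (Commute.mul_left (hfC _ hf2) (hsC _ hf2)).mul_left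
          (Commute.inv_left (hfC _ hf2))
        have h3 := h1.mul_right h2
        rwa [mul_assoc j, hE2 _ hf2, mul_one] at h3
      exact hb f (hsg f hs2) hfC (f * f) hf2 he hfjc
  · obtain ⟨c, hc⟩ : ∃ c, c = p ^ m := ⟨_, rfl⟩
    have hcC : ∀ e ∈ E, Commute c e := fun e he => by rw [hc]; exact (hpC e he).pow_left m
    obtain ⟨e, he, hee⟩ : ∃ e, e ∈ E ∧ p ^ n = e := ⟨_, hnE, rfl⟩
    have hkey : c * j * c⁻¹ = t * e := by
      calc c * j * c⁻¹ = c * (j * c⁻¹ * j) * j := by rw [mul_assoc _ _ j, mul_assoc (j * c⁻¹) j j, hj2]; group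
        _ = c * c * j := by
          have : j * c⁻¹ * j = c := by
            have h1 := hjp m
            rw [← hc] at h1
            rw [← h1, ← mul_assoc, ← mul_assoc, hj2, one_mul, mul_assoc, hj2, mul_one]
          rw [this]
        _ = p⁻¹ * e * j := by
          rw [← hee, hn] at *
          rw [hc, ← pow_add, show Nat.find hex = m + m + 1 by omega, pow_succ', inv_mul_cancel_left]
        _ = t * e := by
          rw [hp, mul_inv_rev, hji, hti, mul_assoc, mul_assoc, ← mul_assoc t j, mul_assoc t,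
            ← (hjC e he), ← mul_assoc j j, hj2, one_mul]
    obtain ⟨d, hd'⟩ : ∃ d, d = c⁻¹ * h := ⟨_, rfl⟩
    have hdu : d * u * d⁻¹ = j * e := by
      have h1 : c⁻¹ * t * c = j * e := by
        have h2 : t = c * j * c⁻¹ * e := by rw [hkey, mul_assoc, hE2 e he, mul_one]
        rw [h2, show c⁻¹ * (c * j * c⁻¹ * e) * c = j * (c⁻¹ * (e * c)) by group, ← (hcC e he).eq, inv_mul_cancel_left]
      rw [hd', ← h1, ht]
      group
    have hdC : ∀ e ∈ E, d * e = e * d := fun e he => by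
      rw [hd']; exact (Commute.inv_left (hcC e he)).mul_left (hh e he)
    exact ha d (hug d (hdu ▸ mul_mem hj (hEH e he))) hdC e he hdu

/-- Control of every involution makes `H` everything. -/
theorem eq_top_of_good {H : Subgroup G} (hgood : ∀ x ∈ H, x * x = 1 → x ≠ 1 → Inside H {x} ∧ Good H x) {t k : G}
    (ht : t ∈ H) (ht2 : t * t = 1) (ht1 : t ≠ 1) (hk : k ∈ H) (hk2 : k * k = 1) (hk1 : k ≠ 1)
    (hne : ∀ c ∈ H, c * t * c⁻¹ ≠ k) : H = ⊤ := by
  refine eq_top_iff.2 fun y _ => ?_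
  by_contra hy
  obtain ⟨t', ht'⟩ : ∃ t', t' = y * t * y⁻¹ := ⟨_, rfl⟩
  have htH : t' ∉ H := fun h => hy ((hgood t ht ht2 ht1).2 y (ht' ▸ h))
  have ht'2 : t' * t' = 1 := by
    rw [ht', show y * t * y⁻¹ * (y * t * y⁻¹) = y * (t * t) * y⁻¹ by group, ht2, mul_one, mul_inv_cancel]
  have hki : k⁻¹ = k := inv_eq_of_mul_eq_one_right hk2
  have hti : t'⁻¹ = t' := inv_eq_of_mul_eq_one_right ht'2
  obtain ⟨p, hp⟩ : ∃ p, p = k * t' := ⟨_, rfl⟩
  have hkp : ∀ i : ℕ, k * p ^ i * k = (p ^ i)⁻¹ := by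
    intro i
    have h1 : p⁻¹ = k * p * k⁻¹ := by rw [hp, mul_inv_rev, hki, hti, ← mul_assoc k k t', hk2, one_mul]
    rw [← inv_pow, h1, conj_pow, hki]
  rcases Nat.even_or_odd' (orderOf p) with ⟨m, hm | hm⟩
  · obtain ⟨e, he⟩ : ∃ e, e = p ^ m := ⟨_, rfl⟩
    have he2 : e * e = 1 := by rw [he, ← pow_add, ← two_mul, ← hm, pow_orderOf_eq_one]
    have he1 : e ≠ 1 := fun h => by
      have hd := orderOf_dvd_of_pow_eq_one (he ▸ h : p ^ m = 1)
      have := orderOf_pos p
      have := Nat.le_of_dvd (by omega) hd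
      omega
    have hei : e⁻¹ = e := inv_eq_of_mul_eq_one_right he2
    have hek : e * k = k * e := by
      have h1 := hkp m
      rw [← he, hei] at h1
      calc e * k = k * e * k * k := by rw [h1]
        _ = k * e := by rw [mul_assoc, hk2, mul_one]
    have heH : e ∈ H := (hgood k hk hk2 hk1).1 e fun x hx => by rw [Set.mem_singleton_iff.1 hx]; exact hek
    have het : t' * e = e * t' := by
      have h1 : Commute e p := by rw [he]; exact Commute.pow_left (Commute.refl p) m
      have h2 : t' = k * p := by rw [hp, ← mul_assoc, hk2, one_mul]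
      rw [h2]
      exact ((Commute.mul_right hek h1).symm : Commute (k * p) e)
    exact htH ((hgood e heH he2 he1).1 t' fun x hx => by rw [Set.mem_singleton_iff.1 hx]; exact het)
  · obtain ⟨c, hc⟩ : ∃ c, c = p ^ m := ⟨_, rfl⟩
    have hkey : c * k * c⁻¹ = t' := by
      have h1 := hkp m
      rw [← hc] at h1
      have h2 : k * c⁻¹ = c * k := by
        rw [← h1, ← mul_assoc, ← mul_assoc, hk2, one_mul]
      rw [mul_assoc, h2, ← mul_assoc, hc, ← pow_add]
      have h3 : p ^ (m + m) = p⁻¹ := by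
        refine eq_inv_of_mul_eq_one_left ?_
        rw [← pow_succ, show m + m + 1 = orderOf p by omega, pow_orderOf_eq_one]
      rw [h3, hp, mul_inv_rev, hki, hti, mul_assoc, hk2, mul_one]
    have hz : (c⁻¹ * y) * t * (c⁻¹ * y)⁻¹ = k := by
      have h4 : c⁻¹ * t' * c = k := by rw [← hkey]; group
      rw [← h4, ht']
      group
    exact hne _ ((hgood t ht ht2 ht1).2 _ (hz ▸ hk)) hz

end Cfsg.Agent.Recog.ThreeCentSp.Cert
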