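import Cfsg.Agent.Lib.Recog.ThreeCentSp.Cert.FullData

/-! Checks of a model. -/

set_option autoImplicit false
set_option maxRecDepth 100000

open Cfsg.Agent.Spor.Cos (allBlock of_allBlock)

namespace Cfsg.Agent.Recog.ThreeCentSp.Cert

theorem full_inv_0 : allBlock (Inv.chk fullInv) 5103 512 0 = true := by decide +kernel

theorem full_inv_1 : allBlock (Inv.chk fullInv) 5103 512 1 = true := by decide +kernel

theorem full_inv_2 : allBlock (Inv.chk fullInv) 5103 512 2 = true := by decide +kernel

theorem full_inv_3 : allBlock (Inv.chk fullInv) 5103 512 3 = true := by decide +kernel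

theorem full_inv_4 : allBlock (Inv.chk fullInv) 5103 512 4 = true := by decide +kernel

theorem full_inv_5 : allBlock (Inv.chk fullInv) 5103 512 5 = true := by decide +kernel

theorem full_inv_6 : allBlock (Inv.chk fullInv) 5103 512 6 = true := by decide +kernel

theorem full_inv_7 : allBlock (Inv.chk fullInv) 5103 512 7 = true := by decide +kernel

theorem full_inv_8 : allBlock (Inv.chk fullInv) 5103 512 8 = true := by decide +kernel

theorem full_inv_9 : allBlock (Inv.chk fullInv) 5103 512 9 = true := by decide +kernel

theorem full_inv : ∀ k < 5103, (Inv.chk fullInv) k = true := by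
  intro k hk
  refine of_allBlock (n := 5103) (size := 512) (by decide) (fun j hj => ?_) hk
  have hj' : j < 10 := by omega
  interval_cases j
  · exact full_inv_0
  · exact full_inv_1
  · exact full_inv_2
  · exact full_inv_3
  · exact full_inv_4
  · exact full_inv_5
  · exact full_inv_6
  · exact full_inv_7
  · exact full_inv_8
  · exact full_inv_9

theorem full_two_0 : allBlock (Sub.chk fullP2 fullP2.gc) 512 128 0 = true := by decide +kernel

theorem full_two_1 : allBlock (Sub.chk fullP2 fullP2.gc) 512 128 1 = true := by decide +kernel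

theorem full_two_2 : allBlock (Sub.chk fullP2 fullP2.gc) 512 128 2 = true := by decide +kernel

theorem full_two_3 : allBlock (Sub.chk fullP2 fullP2.gc) 512 128 3 = true := by decide +kernel

theorem full_two : ∀ k < 512, (Sub.chk fullP2 fullP2.gc) k = true := by
  intro k hk
  refine of_allBlock (n := 512) (size := 128) (by decide) (fun j hj => ?_) hk
  have hj' : j < 4 := by omega
  interval_cases j
  · exact full_two_0
  · exact full_two_1
  · exact full_two_2
  · exact full_two_3

theorem full_hit_0 : allBlock (Inv.chkTwo fullInv fullP2 fullHit) 512 256 0 = true := by decide +kernel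

theorem full_hit_1 : allBlock (Inv.chkTwo fullInv fullP2 fullHit) 512 256 1 = true := by decide +kernel

theorem full_hit : ∀ k < 512, (Inv.chkTwo fullInv fullP2 fullHit) k = true := by
  intro k hk
  refine of_allBlock (n := 512) (size := 256) (by decide) (fun j hj => ?_) hk
  have hj' : j < 2 := by omega
  interval_cases j
  · exact full_hit_0
  · exact full_hit_1

theorem full_P3_0 : allBlock (Sub.chk fullP3 fullP3.gc) 81 128 0 = true := by decide +kernel

theorem full_P3 : ∀ k < 81, (Sub.chk fullP3 fullP3.gc) k = true := by
  intro k hk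
  refine of_allBlock (n := 81) (size := 128) (by decide) (fun j hj => ?_) hk
  have hj' : j < 1 := by omega
  interval_cases j
  · exact full_P3_0

theorem full_odd3_0 : allBlock (Inv.chkOdd fullInv fullP3 fullP3Wit) 81 128 0 = true := by decide +kernel

theorem full_odd3 : ∀ k < 81, (Inv.chkOdd fullInv fullP3 fullP3Wit) k = true := by
  intro k hk
  refine of_allBlock (n := 81) (size := 128) (by decide) (fun j hj => ?_) hk
  have hj' : j < 1 := by omega
  interval_cases j
  · exact full_odd3_0

theorem full_P5_0 : allBlock (Sub.chk fullP5 fullP5.gc) 5 128 0 = true := by decide +kernel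

theorem full_P5 : ∀ k < 5, (Sub.chk fullP5 fullP5.gc) k = true := by
  intro k hk
  refine of_allBlock (n := 5) (size := 128) (by decide) (fun j hj => ?_) hk
  have hj' : j < 1 := by omega
  interval_cases j
  · exact full_P5_0

theorem full_odd5_0 : allBlock (Inv.chkOdd fullInv fullP5 fullP5Wit) 5 128 0 = true := by decide +kernel

theorem full_odd5 : ∀ k < 5, (Inv.chkOdd fullInv fullP5 fullP5Wit) k = true := by
  intro k hk
  refine of_allBlock (n := 5) (size := 128) (by decide) (fun j hj => ?_) hk
  have hj' : j < 1 := by omega
  interval_cases j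
  · exact full_odd5_0

theorem full_P7_0 : allBlock (Sub.chk fullP7 fullP7.gc) 7 128 0 = true := by decide +kernel

theorem full_P7 : ∀ k < 7, (Sub.chk fullP7 fullP7.gc) k = true := by
  intro k hk
  refine of_allBlock (n := 7) (size := 128) (by decide) (fun j hj => ?_) hk
  have hj' : j < 1 := by omega
  interval_cases j
  · exact full_P7_0

theorem full_odd7_0 : allBlock (Inv.chkOdd fullInv fullP7 fullP7Wit) 7 128 0 = true := by decide +kernel

theorem full_odd7 : ∀ k < 7, (Inv.chkOdd fullInv fullP7 fullP7Wit) k = true := by
  intro k hk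
  refine of_allBlock (n := 7) (size := 128) (by decide) (fun j hj => ?_) hk
  have hj' : j < 1 := by omega
  interval_cases j
  · exact full_odd7_0

theorem full_axis : Inv.chkAxis fullInv fullMdl.axis = true := by decide +kernel

theorem fullMdl_ok : fullMdl.OK where
  inv := full_inv
  pos := by decide +kernel
  two := full_two
  twoGens := by decide +kernel
  hit_ok := full_hit
  two_pow := by decide +kernel
  two_max := by decide +kernel
  odd_ok := by
    intro o ho
    simp only [fullMdl, List.mem_cons, List.not_mem_nil, or_false] at ho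
    rcases ho with rfl | rfl | rfl
    · exact ⟨by norm_num, by decide +kernel, by decide +kernel, by decide +kernel, by decide +kernel,
        full_P3, full_odd3⟩
    · exact ⟨by norm_num, by decide +kernel, by decide +kernel, by decide +kernel, by decide +kernel,
        full_P5, full_odd5⟩
    · exact ⟨by norm_num, by decide +kernel, by decide +kernel, by decide +kernel, by decide +kernel,
        full_P7, full_odd7⟩
  primes := by
    intro p hp hd
    have hd' : p ∣ 2 ^ 9 * 3 ^ 4 * 5 * 7 := hd
    have key : ∀ {r k : ℕ}, r.Prime → p ∣ r ^ k → p = r := fun hr h =>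
      (Nat.prime_dvd_prime_iff_eq hp hr).1 (hp.dvd_of_dvd_pow h)
    rcases (Nat.Prime.dvd_mul hp).1 hd' with hd' | h
    rotate_left
    · exact Or.inr ⟨(7, 1, fullP7, fullP7Wit), by simp [fullMdl], ((Nat.prime_dvd_prime_iff_eq hp (by norm_num : Nat.Prime 7)).1 h).symm⟩
    rcases (Nat.Prime.dvd_mul hp).1 hd' with hd' | h
    rotate_left
    · exact Or.inr ⟨(5, 1, fullP5, fullP5Wit), by simp [fullMdl], ((Nat.prime_dvd_prime_iff_eq hp (by norm_num : Nat.Prime 5)).1 h).symm⟩
    rcases (Nat.Prime.dvd_mul hp).1 hd' with h | h
    · exact Or.inl (key Nat.prime_two h)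
    · exact Or.inr ⟨(3, 4, fullP3, fullP3Wit), by simp [fullMdl], (key Nat.prime_three h).symm⟩
  lcm := by
    intro S h2 ho
    have d3 : 81 ∣ S := ho (3, 4, fullP3, fullP3Wit) (by simp [fullMdl])
    have d5 : 5 ∣ S := ho (5, 1, fullP5, fullP5Wit) (by simp [fullMdl])
    have d7 : 7 ∣ S := ho (7, 1, fullP7, fullP7Wit) (by simp [fullMdl])
    have d2 : 512 ∣ S := h2
    show 1451520 ∣ S
    exact (Nat.Coprime.mul_dvd_of_dvd_of_dvd (by norm_num) (Nat.Coprime.mul_dvd_of_dvd_of_dvd (by norm_num) (Nat.Coprime.mul_dvd_of_dvd_of_dvd (by norm_num) d2 d3) d5) d7)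
  axis_ok := full_axis

end Cfsg.Agent.Recog.ThreeCentSp.Cert
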