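import Cfsg.Agent.Lib.Recog.ThreeCentSp.Cert.FullStates

/-! Checks of the states of a model. -/

set_option autoImplicit false
set_option maxRecDepth 100000

open Cfsg.Agent.Spor.Cos (allBlock of_allBlock)

namespace Cfsg.Agent.Recog.ThreeCentSp.Cert

theorem full_state0 : Inv.chkSt fullInv fullFus 0 = true := by decide +kernel

theorem full_state1 : Inv.chkSt fullInv fullFus 1 = true := by decide +kernel

theorem full_state2 : Inv.chkSt fullInv fullFus 2 = true := by decide +kernel

theorem full_state3 : Inv.chkSt fullInv fullFus 3 = true := by decide +kernel

theorem full_state4 : Inv.chkSt fullInv fullFus 4 = true := by decide +kernel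

theorem full_state5 : Inv.chkSt fullInv fullFus 5 = true := by decide +kernel

theorem full_state6 : Inv.chkSt fullInv fullFus 6 = true := by decide +kernel

theorem full_state7 : Inv.chkSt fullInv fullFus 7 = true := by decide +kernel

theorem full_state8 : Inv.chkSt fullInv fullFus 8 = true := by decide +kernel

theorem full_state9 : Inv.chkSt fullInv fullFus 9 = true := by decide +kernel

theorem full_state10 : Inv.chkSt fullInv fullFus 10 = true := by decide +kernel

theorem full_state11 : Inv.chkSt fullInv fullFus 11 = true := by decide +kernel

theorem full_state12 : Inv.chkSt fullInv fullFus 12 = true := by decide +kernel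

theorem full_state13 : Inv.chkSt fullInv fullFus 13 = true := by decide +kernel

theorem full_state14 : Inv.chkSt fullInv fullFus 14 = true := by decide +kernel

theorem full_state15 : Inv.chkSt fullInv fullFus 15 = true := by decide +kernel

theorem full_state16 : Inv.chkSt fullInv fullFus 16 = true := by decide +kernel

theorem full_state17 : Inv.chkSt fullInv fullFus 17 = true := by decide +kernel

theorem full_state18 : Inv.chkSt fullInv fullFus 18 = true := by decide +kernel

theorem full_state19 : Inv.chkSt fullInv fullFus 19 = true := by decide +kernel

theorem full_state20 : Inv.chkSt fullInv fullFus 20 = true := by decide +kernel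

theorem full_state21 : Inv.chkSt fullInv fullFus 21 = true := by decide +kernel

theorem full_state22 : Inv.chkSt fullInv fullFus 22 = true := by decide +kernel

theorem full_state23 : Inv.chkSt fullInv fullFus 23 = true := by decide +kernel

theorem full_state24 : Inv.chkSt fullInv fullFus 24 = true := by decide +kernel

theorem full_state25 : Inv.chkSt fullInv fullFus 25 = true := by decide +kernel

theorem full_state26 : Inv.chkSt fullInv fullFus 26 = true := by decide +kernel

theorem full_state27 : Inv.chkSt fullInv fullFus 27 = true := by decide +kernel

theorem full_state28 : Inv.chkSt fullInv fullFus 28 = true := by decide +kernel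

theorem full_state29 : Inv.chkSt fullInv fullFus 29 = true := by decide +kernel

theorem full_state30 : Inv.chkSt fullInv fullFus 30 = true := by decide +kernel

theorem full_state31 : Inv.chkSt fullInv fullFus 31 = true := by decide +kernel

theorem full_state32 : Inv.chkSt fullInv fullFus 32 = true := by decide +kernel

theorem full_state33 : Inv.chkSt fullInv fullFus 33 = true := by decide +kernel

theorem full_state34 : Inv.chkSt fullInv fullFus 34 = true := by decide +kernel

theorem full_state35 : Inv.chkSt fullInv fullFus 35 = true := by decide +kernel

theorem full_state36 : Inv.chkSt fullInv fullFus 36 = true := by decide +kernel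

theorem full_root1_0 : allBlock (Inv.chkRoot fullInv fullFus 1) 5103 1024 0 = true := by decide +kernel

theorem full_root1_1 : allBlock (Inv.chkRoot fullInv fullFus 1) 5103 1024 1 = true := by decide +kernel

theorem full_root1_2 : allBlock (Inv.chkRoot fullInv fullFus 1) 5103 1024 2 = true := by decide +kernel

theorem full_root1_3 : allBlock (Inv.chkRoot fullInv fullFus 1) 5103 1024 3 = true := by decide +kernel

theorem full_root1_4 : allBlock (Inv.chkRoot fullInv fullFus 1) 5103 1024 4 = true := by decide +kernel

theorem full_root1 : ∀ k < 5103, (Inv.chkRoot fullInv fullFus 1) k = true := by
  intro k hk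
  refine of_allBlock (n := 5103) (size := 1024) (by decide) (fun j hj => ?_) hk
  have hj' : j < 5 := by omega
  interval_cases j
  · exact full_root1_0
  · exact full_root1_1
  · exact full_root1_2
  · exact full_root1_3
  · exact full_root1_4

theorem full_root2_0 : allBlock (Inv.chkRoot fullInv fullFus 2) 5103 1024 0 = true := by decide +kernel

theorem full_root2_1 : allBlock (Inv.chkRoot fullInv fullFus 2) 5103 1024 1 = true := by decide +kernel

theorem full_root2_2 : allBlock (Inv.chkRoot fullInv fullFus 2) 5103 1024 2 = true := by decide +kernel

theorem full_root2_3 : allBlock (Inv.chkRoot fullInv fullFus 2) 5103 1024 3 = true := by decide +kernel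

theorem full_root2_4 : allBlock (Inv.chkRoot fullInv fullFus 2) 5103 1024 4 = true := by decide +kernel

theorem full_root2 : ∀ k < 5103, (Inv.chkRoot fullInv fullFus 2) k = true := by
  intro k hk
  refine of_allBlock (n := 5103) (size := 1024) (by decide) (fun j hj => ?_) hk
  have hj' : j < 5 := by omega
  interval_cases j
  · exact full_root2_0
  · exact full_root2_1
  · exact full_root2_2
  · exact full_root2_3
  · exact full_root2_4

theorem full_root3_0 : allBlock (Inv.chkRoot fullInv fullFus 3) 5103 1024 0 = true := by decide +kernel

theorem full_root3_1 : allBlock (Inv.chkRoot fullInv fullFus 3) 5103 1024 1 = true := by decide +kernel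

theorem full_root3_2 : allBlock (Inv.chkRoot fullInv fullFus 3) 5103 1024 2 = true := by decide +kernel

theorem full_root3_3 : allBlock (Inv.chkRoot fullInv fullFus 3) 5103 1024 3 = true := by decide +kernel

theorem full_root3_4 : allBlock (Inv.chkRoot fullInv fullFus 3) 5103 1024 4 = true := by decide +kernel

theorem full_root3 : ∀ k < 5103, (Inv.chkRoot fullInv fullFus 3) k = true := by
  intro k hk
  refine of_allBlock (n := 5103) (size := 1024) (by decide) (fun j hj => ?_) hk
  have hj' : j < 5 := by omega
  interval_cases j
  · exact full_root3_0
  · exact full_root3_1
  · exact full_root3_2
  · exact full_root3_3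
  · exact full_root3_4

theorem fullFus_ok : fullFus.OK fullInv where
  states := by
    intro i hi
    change i < 37 at hi
    interval_cases i
    · exact full_state0
    · exact full_state1
    · exact full_state2
    · exact full_state3
    · exact full_state4
    · exact full_state5
    · exact full_state6
    · exact full_state7
    · exact full_state8
    · exact full_state9
    · exact full_state10
    · exact full_state11
    · exact full_state12
    · exact full_state13
    · exact full_state14
    · exact full_state15
    · exact full_state16
    · exact full_state17
    · exact full_state18
    · exact full_state19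
    · exact full_state20
    · exact full_state21
    · exact full_state22
    · exact full_state23
    · exact full_state24
    · exact full_state25
    · exact full_state26
    · exact full_state27
    · exact full_state28
    · exact full_state29
    · exact full_state30
    · exact full_state31
    · exact full_state32
    · exact full_state33
    · exact full_state34
    · exact full_state35
    · exact full_state36
  root := by
    intro c hc hc' k hk
    change 1 ≤ c at hc
    change c < 4 at hc'
    revert k
    interval_cases c
    · exact full_root1
    · exact full_root2
    · exact full_root3
  three := by decide +kernel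
  last := by decide +kernel
  base := by decide +kernel
  roots := by decide +kernel

end Cfsg.Agent.Recog.ThreeCentSp.Cert
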