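import Cfsg.Agent.Lib.Recog.ThreeCentSp.Cert.States

/-! From the tables to control of all involutions. -/

set_option autoImplicit false
set_option linter.style.haveILetI false
set_option linter.unusedSectionVars false

open Cfsg.Agent.Classical.SpSix (G0)
open Cfsg.Agent.Spor
open Cfsg.Agent.Spor.Cos (force force_eq)

namespace Cfsg.Agent.Recog.ThreeCentSp.Cert

theorem eq_of_comN {x y : G0} (h : comN (code x) (code y) = true) : x * y = y * x :=
  code_injective (by rw [code_mul, code_mul]; exact Nat.eq_of_beq_eq_true h)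

theorem comN_of_eq {x y : G0} (h : x * y = y * x) : comN (code x) (code y) = true := by
  rw [comN, ← code_mul, ← code_mul, h, Nat.beq_eq]

theorem eq_one_of_pow {x : G0} {m : ℕ} (h : powN (code x) m = oneN) : x ^ m = 1 :=
  eq_one_of_code ((code_pow_eq x m).trans h)

namespace Inv

variable (I : Inv)

open _root_.Classical in
/-- The involution at a place; the identity for the places beyond. -/
noncomputable def elt (k : ℕ) : mS I.n :=
  if h : k < I.nI ∧ ∃ x : mS I.n, code (x : G0) = I.inv.tbl.at k then h.2.choose else 1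

/-- The element of a set of a state. -/
noncomputable def eElt (E : List ℕ) (a : ℕ) : mS I.n := if a = 0 then 1 else I.elt (E.getD (a - 1) 0)

variable {I}

theorem elt_code (hI : ∀ k < I.nI, I.chk k = true) (k : ℕ) : code (I.elt k : G0) = I.iC k := by
  rcases Nat.lt_or_ge k I.nI with hk | hk
  · obtain ⟨-, x, hx, hat, -⟩ := exists_at hI k hk
    have h : k < I.nI ∧ ∃ x : mS I.n, code (x : G0) = I.inv.tbl.at k := ⟨hk, ⟨x, hx⟩, hat.2⟩
    rw [elt, dif_pos h, h.2.choose_spec, iC, show Nat.blt k I.nI = true from Nat.ble_eq_true_of_le hk, cond_true]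
  · have h : ¬ (k < I.nI ∧ ∃ x : mS I.n, code (x : G0) = I.inv.tbl.at k) := fun h => absurd h.1 (by omega)
    rw [elt, dif_neg h, Subgroup.coe_one, code_one, iC,
      show Nat.blt k I.nI = false from Bool.eq_false_iff.2 fun e => absurd (Nat.le_of_ble_eq_true e) (by omega), cond_false]

theorem elt_at (hI : ∀ k < I.nI, I.chk k = true) {k : ℕ} (hk : k < I.nI) : I.At (I.elt k : G0) k :=
  ⟨hk, by rw [elt_code hI, iC, show Nat.blt k I.nI = true from Nat.ble_eq_true_of_le hk, cond_true]⟩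

theorem elt_sq (hI : ∀ k < I.nI, I.chk k = true) (k : ℕ) : I.elt k * I.elt k = 1 := by
  rcases Nat.lt_or_ge k I.nI with hk | hk
  · exact Subtype.ext (At.sq hI (elt_at hI hk)).1
  · have : I.elt k = 1 := by
      rw [elt, dif_neg fun h => absurd h.1 (by omega)]
    rw [this, one_mul]

theorem elt_ne (hI : ∀ k < I.nI, I.chk k = true) {k : ℕ} (hk : k < I.nI) : I.elt k ≠ 1 :=
  fun e => (At.sq hI (elt_at hI hk)).2 (congrArg Subtype.val e)

theorem eElt_code (hI : ∀ k < I.nI, I.chk k = true) {E : List ℕ} (hE : ∀ e ∈ E, e < I.nI) {a : ℕ}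
    (ha : a ≤ E.length) : code (I.eElt E a : G0) = I.eC E a := by
  rcases Nat.eq_zero_or_pos a with rfl | h0
  · rw [eElt, if_pos rfl, Subgroup.coe_one, code_one, eC]
    rfl
  · have hlt : a - 1 < E.length := by omega
    have hmem : E.getD (a - 1) 0 < I.nI := hE _ (by rw [List.getD_eq_getElem _ _ hlt]; exact List.getElem_mem _)
    rw [eElt, if_neg (by omega), (elt_at hI hmem).2, eC,
      show Nat.beq a 0 = false from by cases a with | zero => omega | succ a => rfl, cond_false]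

/-- Conjugate elements have the same class. -/
theorem iCls_conj (hI : ∀ k < I.nI, I.chk k = true) {c : mS I.n} {k l : ℕ} (hk : k ≤ I.nI) (hl : l ≤ I.nI)
    (h : c * I.elt k * c⁻¹ = I.elt l) : I.iCls k = I.iCls l := by
  have hblt : ∀ m, m < I.nI → I.iCls m = I.cls.at m := fun m hm => by
    rw [iCls, show Nat.blt m I.nI = true from Nat.ble_eq_true_of_le hm, cond_true]
  have hone : I.elt I.nI = 1 := by rw [elt, dif_neg fun h => absurd h.1 (by omega)]
  rcases hk.lt_or_eq with hk' | rfl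
  · rcases hl.lt_or_eq with hl' | rfl
    · obtain ⟨m, hm, hcls⟩ := At.conj hI c.2 (elt_at hI hk')
      have e : ((c * I.elt k * c⁻¹ : mS I.n) : G0) = (I.elt l : G0) := congrArg Subtype.val h
      rw [Subgroup.coe_mul, Subgroup.coe_mul, Subgroup.coe_inv] at e
      rw [e] at hm
      rw [hblt k hk', hblt l hl', ← hcls, At.unique hI hm (elt_at hI hl')]
    · rw [hone] at h
      exact absurd (conj_eq_one_iff.1 h) (elt_ne hI hk')
  · rcases hl.lt_or_eq with hl' | rfl
    · rw [hone, mul_one, mul_inv_cancel] at h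
      exact absurd h.symm (elt_ne hI hl')
    · rfl

end Inv

section Transport

variable {G : Type*} [Group G] [Finite G] {I : Inv} {F : Fus}

/-- What is known about `H`. -/
structure Ambient (I : Inv) (F : Fus) (H : Subgroup G) (ψ : mS I.n →* G) : Prop where
  hI : ∀ k < I.nI, I.chk k = true
  hF : F.OK I
  inj : Function.Injective ψ
  range : ψ.range = H
  all : ∀ x : mS I.n, x * x = 1 → x ≠ 1 → ∃ k, I.At (x : G0) k
  three : ∀ w ∈ H, orderOf w = 3 → Good H w
  base : ∀ c < F.nbase, c < I.roots.length → Inside H {ψ (I.elt (I.roots.getD c (0, [])).1)}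

namespace Ambient

variable {H : Subgroup G} {ψ : mS I.n →* G} (A : Ambient I F H ψ)

include A

theorem mem (x : mS I.n) : ψ x ∈ H := A.range ▸ ⟨x, rfl⟩

theorem conj_root {k : ℕ} (hk : k < I.nI) :
    ∃ c : mS I.n, c * I.elt (I.roots.getD (I.cls.at k) (0, [])).1 * c⁻¹ = I.elt k := by
  obtain ⟨hlen, x, hx, hat, c, hc, hcx⟩ := Inv.exists_at A.hI k hk
  obtain ⟨hr, hrc⟩ := A.hF.roots _ hlen
  have h := A.hI _ hr
  simp only [Inv.chk, Inv.chkPar, force_eq, Bool.and_eq_true] at h
  obtain ⟨-, y, hy, hyat, d, hd, hdy⟩ := Inv.exists_at A.hI _ hr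
  rw [hrc] at hdy
  refine ⟨⟨c * d⁻¹, mul_mem hc (inv_mem hd)⟩, Subtype.ext ?_⟩
  show c * d⁻¹ * (I.elt (I.roots.getD (I.cls.at k) (0, [])).1 : G0) * (c * d⁻¹)⁻¹ = (I.elt k : G0)
  rw [Inv.At.eq (Inv.elt_at A.hI hr) hyat, Inv.At.eq (Inv.elt_at A.hI hk) hat, ← hcx, ← hdy]
  group

theorem inside_of_root {k : ℕ} (hk : k < I.nI)
    (hr : Inside H {ψ (I.elt (I.roots.getD (I.cls.at k) (0, [])).1)}) : Inside H {ψ (I.elt k)} := by
  obtain ⟨c, hc⟩ := A.conj_root hk
  intro y hy
  have hy' := hy _ rfl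
  rw [← hc, map_mul, map_mul, map_inv] at hy'
  have h2 := hr ((ψ c)⁻¹ * y * ψ c) fun e he => by
    rw [Set.mem_singleton_iff.1 he]
    calc (ψ c)⁻¹ * y * ψ c * ψ (I.elt (I.roots.getD (I.cls.at k) (0, [])).1)
        = (ψ c)⁻¹ * (y * (ψ c * ψ (I.elt (I.roots.getD (I.cls.at k) (0, [])).1) * (ψ c)⁻¹)) * ψ c := by group
      _ = _ := by rw [hy']; group
  have := mul_mem (mul_mem (A.mem c) h2) (inv_mem (A.mem c))
  simpa [mul_assoc] using this

theorem good_of_inside {x : mS I.n} (hx : x * x = 1) (hx1 : x ≠ 1) (h : Inside H {ψ x}) : Good H (ψ x) := by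
  intro y hy
  rw [← A.range] at hy
  obtain ⟨z, hz⟩ := hy
  have hz2 : z * z = 1 := A.inj (by
    rw [map_mul, hz, map_one]
    calc y * ψ x * y⁻¹ * (y * ψ x * y⁻¹) = y * (ψ x * ψ x) * y⁻¹ := by group
      _ = 1 := by rw [← map_mul, hx, map_one, mul_one, mul_inv_cancel])
  have hz1 : z ≠ 1 := fun e => hx1 (A.inj (by
    rw [e, map_one] at hz
    rw [map_one]
    exact conj_eq_one_iff.1 hz.symm))
  obtain ⟨k, hk⟩ := A.all z hz2 hz1
  obtain ⟨c, hc⟩ := A.conj_root hk.1
  have hzk : z = I.elt k := Subtype.ext (Inv.At.eq hk (Inv.elt_at A.hI hk.1))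
  obtain ⟨hlen, -⟩ := Inv.exists_at A.hI k hk.1
  have h3 := A.hF.three
  simp only [Inv.chkThree, List.all_eq_true, List.mem_range, Bool.and_eq_true, Cos.force_eq, Nat.beq_eq,
    Bool.not_eq_true'] at h3
  obtain ⟨hw, ⟨h33, h31⟩, hcom⟩ := h3 _ hlen
  have hwmem := word_mem (n := I.n) (List.all_eq_true.2 hw)
  obtain ⟨w, hwd⟩ : ∃ w : mS I.n, (w : G0) = Cos.ev mG (F.three.getD (I.cls.at k) []) := ⟨⟨_, hwmem⟩, rfl⟩
  rw [← code_ev, ← hwd] at h33 h31 hcom
  have hrlt := (A.hF.roots _ hlen).1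
  rw [← (Inv.elt_at A.hI hrlt).2] at hcom
  have hwr : w * I.elt (I.roots.getD (I.cls.at k) (0, [])).1 = I.elt (I.roots.getD (I.cls.at k) (0, [])).1 * w :=
    Subtype.ext (eq_of_comN hcom)
  haveI : Fact (Nat.Prime 3) := ⟨Nat.prime_three⟩
  have ho : orderOf (ψ (c * w * c⁻¹)) = 3 := by
    rw [orderOf_injective ψ A.inj]
    refine orderOf_eq_prime ?_ fun e => ?_
    · rw [conj_pow, show w ^ 3 = 1 from Subtype.ext (eq_one_of_pow h33), mul_one, mul_inv_cancel]
    · rw [conj_eq_one_iff] at e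
      rw [e, Subgroup.coe_one, code_one] at h31
      simp at h31
  have hcomm : ψ (c * w * c⁻¹) * ψ z = ψ z * ψ (c * w * c⁻¹) := by
    rw [← map_mul, ← map_mul, hzk, ← hc]
    refine congrArg ψ ?_
    calc c * w * c⁻¹ * (c * I.elt (I.roots.getD (I.cls.at k) (0, [])).1 * c⁻¹)
        = c * (w * I.elt (I.roots.getD (I.cls.at k) (0, [])).1) * c⁻¹ := by group
      _ = _ := by rw [hwr]; group
  rw [hz] at hcomm
  have hH : y⁻¹ * ψ (c * w * c⁻¹) * y ∈ H := h _ fun e he => by
    rw [Set.mem_singleton_iff.1 he]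
    calc y⁻¹ * ψ (c * w * c⁻¹) * y * ψ x = y⁻¹ * (ψ (c * w * c⁻¹) * (y * ψ x * y⁻¹)) * y := by group
      _ = _ := by rw [hcomm]; group
  refine A.three _ hH ?_ y ?_
  · rw [show y⁻¹ * ψ (c * w * c⁻¹) * y = MulAut.conj y⁻¹ (ψ (c * w * c⁻¹)) by simp, MulEquiv.orderOf_eq, ho]
  · rw [show y * (y⁻¹ * ψ (c * w * c⁻¹) * y) * y⁻¹ = ψ (c * w * c⁻¹) by group]
    exact A.mem _

theorem state_inside : ∀ i, i < F.states.length → ∀ S : St,
    S = F.states.getD i ⟨I.roots.length, [], 0, 0, 0, 0, [], [], []⟩ →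
    (∀ k < I.nI, I.cls.at k < S.cls → Inside H {ψ (I.elt k)}) →
    Inside H ((fun a => ψ (I.eElt S.E a)) '' Set.Iic S.E.length) := by
  intro i
  induction i using Nat.strong_induction_on with
  | _ i ih =>
    intro hi S hS hlow
    have h := A.hF.states i hi
    simp only [Inv.chkSt, ← hS, Bool.and_eq_true] at h
    obtain ⟨⟨⟨hshape, hfus⟩, hall⟩, hkids⟩ := h
    simp only [Inv.chkShape, Bool.and_eq_true, List.all_eq_true, Nat.blt_eq, Nat.ble_eq, List.contains_iff_mem,
      Bool.not_eq_true'] at hshape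
    obtain ⟨⟨⟨⟨⟨⟨⟨⟨⟨⟨⟨hc, hE⟩, hj⟩, hu⟩, hsa⟩, hsb⟩, hroot⟩, hucls⟩, hjE⟩, hcom⟩, hsj⟩, hs⟩ := hshape
    have hI := A.hI
    have e_code : ∀ a ≤ S.E.length, code (I.eElt S.E a : G0) = I.eC S.E a := fun a ha => Inv.eElt_code hI hE ha
    have e_cases : ∀ a ≤ S.E.length, I.eElt S.E a = 1 ∨ ∃ e ∈ S.E, I.eElt S.E a = I.elt e := by
      intro a ha
      rcases Nat.eq_zero_or_pos a with rfl | h0
      · exact Or.inl (by rw [Inv.eElt, if_pos rfl])
      · have hlt : a - 1 < S.E.length := by omega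
        exact Or.inr ⟨S.E.getD (a - 1) 0, by rw [List.getD_eq_getElem _ _ hlt]; exact List.getElem_mem _,
          by rw [Inv.eElt, if_neg (by omega)]⟩
    have e_mem : ∀ e ∈ S.E, ψ (I.elt e) ∈ (fun a => ψ (I.eElt S.E a)) '' Set.Iic S.E.length := by
      intro e he
      obtain ⟨a, ha, rfl⟩ := List.getElem_of_mem he
      refine ⟨a + 1, ha, ?_⟩
      show ψ (I.eElt S.E (a + 1)) = _
      rw [Inv.eElt, if_neg (by omega), Nat.add_sub_cancel, List.getD_eq_getElem _ _ ha]
    have commE : ∀ x : mS I.n, (∀ e ∈ S.E, x * I.elt e = I.elt e * x) →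
        ∀ z ∈ (fun a => ψ (I.eElt S.E a)) '' Set.Iic S.E.length, ψ x * z = z * ψ x := by
      rintro x hx _ ⟨a, ha, rfl⟩
      show ψ x * ψ (I.eElt S.E a) = ψ (I.eElt S.E a) * ψ x
      rcases e_cases a ha with e | ⟨e, he, ee⟩
      · rw [e, map_one, one_mul, mul_one]
      · rw [ee, ← map_mul, ← map_mul, hx e he]
    have ofcom : ∀ (x : mS I.n) (v : ℕ), code (x : G0) = v → ∀ k < I.nI, comN v (I.inv.tbl.at k) = true →
        x * I.elt k = I.elt k * x := by
      intro x v hv k hk hcm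
      rw [← hv, ← (Inv.elt_at hI hk).2] at hcm
      exact Subtype.ext (eq_of_comN hcm)
    have hjc := (Inv.elt_at hI hj).2
    have huc := (Inv.elt_at hI hu).2
    have hsc : code ((I.elt S.sa * I.elt S.sb : mS I.n) : G0) = I.sC S := by
      rw [Subgroup.coe_mul, code_mul, Inv.elt_code hI, Inv.elt_code hI, Inv.sC]
    have hwit : ∀ (x y : mS I.n) (vx vy : ℕ), code (x : G0) = vx → code (y : G0) = vy → ∀ w, I.chkWit vx vy S.E w = true →
        ∀ d : mS I.n, (∀ e ∈ S.E, d * I.elt e = I.elt e * d) → d * y * d⁻¹ ≠ x := by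
      intro x y vx vy hx hy w hw d hd heq
      simp only [Inv.chkWit, force_eq, Bool.and_eq_true, Nat.ble_eq, Nat.beq_eq, Bool.not_eq_true'] at hw
      obtain ⟨⟨⟨hb, hp⟩, hq⟩, ⟨ex, ey⟩, hne⟩ := hw
      have e1 : I.elt w.2.1 = x * I.eElt S.E w.1 := Subtype.ext (code_injective (by
        rw [Subgroup.coe_mul, code_mul, Inv.elt_code hI, ex, hx, e_code _ hb]))
      have e2 : I.elt w.2.2 = y * I.eElt S.E w.1 := Subtype.ext (code_injective (by
        rw [Subgroup.coe_mul, code_mul, Inv.elt_code hI, ey, hy, e_code _ hb]))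
      have hde : d * I.eElt S.E w.1 * d⁻¹ = I.eElt S.E w.1 := by
        rcases e_cases _ hb with e | ⟨e, he, ee⟩
        · rw [e, mul_one, mul_inv_cancel]
        · rw [ee, hd e he, mul_inv_cancel_right]
      have hcl := Inv.iCls_conj hI (c := d) hq hp (by
        rw [e1, e2, show d * (y * I.eElt S.E w.1) * d⁻¹ = d * y * d⁻¹ * (d * I.eElt S.E w.1 * d⁻¹) by group, heq,
          hde])
      rw [hcl] at hne
      simp at hne
    simp only [Inv.chkFusion, force_eq, Bool.and_eq_true, List.all_eq_true, List.mem_range] at hfus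
    refine inside_step (j := ψ (I.elt S.j)) (u := ψ (I.elt S.u)) (s := ψ (I.elt S.sa * I.elt S.sb))
      ⟨0, Nat.zero_le _, by show ψ (I.eElt S.E 0) = 1; rw [Inv.eElt, if_pos rfl, map_one]⟩ ?_ ?_ (A.mem _)
      (by rw [← map_mul, Inv.elt_sq hI, map_one])
      (commE _ fun e he => ofcom _ _ hjc e (hE e he) (hcom e he).1.1) ?_ (A.mem _)
      (by rw [← map_mul, Inv.elt_sq hI, map_one])
      (commE _ fun e he => ofcom _ _ huc e (hE e he) (hcom e he).1.2)
      (A.good_of_inside (Inv.elt_sq hI _) (Inv.elt_ne hI hu) (hlow _ hu hucls))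
      (commE _ fun e he => ofcom _ _ hsc e (hE e he) (hcom e he).2) ?_ ?_ ?_ ?_ ?_
    · rintro _ ⟨a, ha, rfl⟩
      show ψ (I.eElt S.E a) * ψ (I.eElt S.E a) = 1
      rw [← map_mul]
      rcases e_cases a ha with e | ⟨e, -, ee⟩
      · rw [e, one_mul, map_one]
      · rw [ee, Inv.elt_sq hI, map_one]
    · rintro _ ⟨a, -, rfl⟩
      exact A.mem _
    · rintro ⟨a, ha, e⟩
      have e' := A.inj e
      rcases e_cases a ha with e1 | ⟨b, hb, e1⟩
      · exact Inv.elt_ne hI hj (e'.symm.trans e1)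
      · have := Inv.At.unique hI (Inv.elt_at hI hj) (by
          rw [show (I.elt S.j : G0) = I.elt b from congrArg Subtype.val (e'.symm.trans e1)]
          exact Inv.elt_at hI (hE b hb))
        rw [this] at hjE
        simp [hb] at hjE
    · rw [← map_mul, ← map_mul, ofcom _ _ hsc _ hj hsj]
    · cases hb : Nat.beq S.sb I.nI
      · simp only [hb, cond_false, Bool.and_eq_true, Nat.beq_eq, Bool.not_eq_true'] at hs
        refine A.three _ (A.mem _) ?_
        haveI : Fact (Nat.Prime 3) := ⟨Nat.prime_three⟩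
        rw [orderOf_injective ψ A.inj]
        refine orderOf_eq_prime (Subtype.ext (eq_one_of_pow (m := 3) (by rw [hsc]; exact hs.1))) fun e => ?_
        have h2 := hs.2
        rw [← hsc, e, Subgroup.coe_one, code_one] at h2
        simp at h2
      · simp only [hb, cond_true, Nat.blt_eq] at hs
        have hone : I.elt S.sb = 1 := by
          rw [Nat.eq_of_beq_eq_true hb, Inv.elt, dif_neg fun h => absurd h.1 (by omega)]
        rw [hone, mul_one]
        exact A.good_of_inside (Inv.elt_sq hI _) (Inv.elt_ne hI hsa) (hlow _ hsa hs)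
    · intro c hc' hcC z hz
      obtain ⟨d, rfl⟩ : c ∈ ψ.range := A.range.symm ▸ hc'
      obtain ⟨a, ha, rfl⟩ := hz
      show ψ d * ψ (I.elt S.u) * (ψ d)⁻¹ ≠ ψ (I.elt S.j) * ψ (I.eElt S.E a)
      rw [← map_inv, ← map_mul, ← map_mul, ← map_mul]
      refine A.inj.ne (hwit _ _ _ _ ?_ huc _ (hfus.1 a (Nat.lt_succ_of_le ha)) d fun e he =>
        A.inj (by rw [map_mul, map_mul]; exact hcC _ (e_mem e he)))
      rw [Subgroup.coe_mul, code_mul, hjc, e_code a ha]
    · intro c hc' hcC z hz hz1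
      obtain ⟨d, rfl⟩ : c ∈ ψ.range := A.range.symm ▸ hc'
      obtain ⟨a, ha, rfl⟩ := hz
      show ψ d * ψ (I.elt S.j) * (ψ d)⁻¹ ≠ ψ (I.elt S.j) * ψ (I.eElt S.E a)
      rw [← map_inv, ← map_mul, ← map_mul, ← map_mul]
      obtain ⟨a, rfl⟩ : ∃ b, a = b + 1 := by
        refine ⟨a - 1, ?_⟩
        rcases Nat.eq_zero_or_pos a with rfl | h
        · exact absurd (by show ψ (I.eElt S.E 0) = 1; rw [Inv.eElt, if_pos rfl, map_one]) hz1
        · omega
      refine A.inj.ne (hwit _ _ _ _ ?_ hjc _ (hfus.2 a ha) d fun e he =>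
        A.inj (by rw [map_mul, map_mul]; exact hcC _ (e_mem e he)))
      rw [Subgroup.coe_mul, code_mul, hjc, e_code _ ha]
    · intro x hxH hx2 hxE hxC hxj
      obtain ⟨z, rfl⟩ : x ∈ ψ.range := A.range.symm ▸ hxH
      have hz2 : z * z = 1 := A.inj (by rw [map_mul, hx2, map_one])
      have hz1 : z ≠ 1 := fun e => hxE ⟨0, Nat.zero_le _, by
        show ψ (I.eElt S.E 0) = ψ z
        rw [e, Inv.eElt, if_pos rfl]⟩
      obtain ⟨k, hk⟩ := A.all z hz2 hz1
      have hzk : z = I.elt k := Subtype.ext (Inv.At.eq hk (Inv.elt_at hI hk.1))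
      have hkE : k ∉ S.E := fun h => hxE (hzk ▸ e_mem k h)
      have tocom : ∀ (e : ℕ), e < I.nI → ψ z * ψ (I.elt e) = ψ (I.elt e) * ψ z →
          comN (I.inv.tbl.at k) (I.inv.tbl.at e) = true := by
        intro e he h
        rw [← map_mul, ← map_mul] at h
        rw [← hk.2, ← (Inv.elt_at hI he).2]
        exact comN_of_eq (congrArg Subtype.val (A.inj h))
      obtain ⟨hrlt, -⟩ := A.hF.roots _ hc
      have hrk := A.hF.root _ (by have := A.hF.base i hi; rwa [← hS] at this) hc k hk.1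
      simp only [Inv.chkRoot, force_eq, Bool.or_eq_true, Bool.not_eq_true', Nat.beq_eq,
        List.contains_iff_mem] at hrk
      have hmem : k ∈ F.croot.getD S.cls [] := by
        rcases hrk with (h | h) | h
        · exact absurd (h ▸ hroot) hkE
        · rw [tocom _ hrlt (hxC _ (e_mem _ hroot))] at h; exact absurd h (by simp)
        · exact h
      simp only [Inv.chkAll, force_eq, List.all_eq_true, Bool.or_eq_true, Bool.not_eq_true', List.any_eq_true,
        List.contains_iff_mem, Nat.beq_eq] at hall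
      rcases hall k (List.mem_cons_of_mem _ hmem) with (h | h) | ⟨t, ht, htk⟩
      · exact absurd h hkE
      · exfalso
        have : (comN (I.inv.tbl.at k) (I.inv.tbl.at S.j) &&
            S.E.all fun e => comN (I.inv.tbl.at k) (I.inv.tbl.at e)) = true := by
          rw [Bool.and_eq_true, List.all_eq_true]
          exact ⟨tocom _ hj hxj, fun e he => tocom _ (hE e he) (hxC _ (e_mem e he))⟩
        rw [this] at h
        exact absurd h (by simp)
      have hkid := List.all_eq_true.1 hkids t ht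
      simp only [Inv.chkKid, Bool.and_eq_true, Nat.blt_eq] at hkid
      obtain ⟨-, hkid⟩ := hkid
      intro y hy
      have hyz : y * ψ z = ψ z * y := hy _ (Set.mem_insert _ _)
      have hyE : ∀ a ≤ S.E.length, y * ψ (I.eElt S.E a) = ψ (I.eElt S.E a) * y := fun a ha =>
        hy _ (Set.mem_insert_of_mem _ ⟨a, ha, rfl⟩)
      cases hb : Nat.beq t.2.1 0
      · simp only [hb, cond_false, Bool.and_eq_true, Nat.blt_eq, Nat.beq_eq, List.all_eq_true, List.mem_range,
          Nat.ble_eq] at hkid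
        obtain ⟨⟨hlt, hcls⟩, hgen⟩ := hkid
        have hlen : t.2.1 - 1 < F.states.length := hlt.trans hi
        obtain ⟨T, hT⟩ : ∃ T, T = F.states.getD (t.2.1 - 1) ⟨I.roots.length, [], 0, 0, 0, 0, [], [], []⟩ := ⟨_, rfl⟩
        have hT' : F.states.getD (t.2.1 - 1) S = T := by
          rw [hT, List.getD_eq_getElem _ _ hlen, List.getD_eq_getElem _ _ hlen]
        rw [hT'] at hcls hgen
        refine ih _ hlt hlen T hT (fun m hm hm' => hlow m hm (hcls ▸ hm')) y ?_
        rintro _ ⟨f, hf, rfl⟩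
        show y * ψ (I.eElt T.E f) = ψ (I.eElt T.E f) * y
        rcases Nat.eq_zero_or_pos f with rfl | h0
        · rw [Inv.eElt, if_pos rfl, map_one, one_mul, mul_one]
        have hflt : f - 1 < T.E.length := by
          have : f ≤ T.E.length := hf
          omega
        obtain ⟨hble, hgen⟩ := hgen (f - 1) hflt
        have hTE := A.hF.states _ hlen
        simp only [Inv.chkSt, ← hT, Inv.chkShape, Bool.and_eq_true, List.all_eq_true, Nat.blt_eq] at hTE
        have hmemf : T.E.getD (f - 1) 0 < I.nI :=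
          hTE.1.1.1.1.1.1.1.1.1.1.1.1.1.2 _ (by rw [List.getD_eq_getElem _ _ hflt]; exact List.getElem_mem _)
        have hef : I.eElt T.E f = I.elt (T.E.getD (f - 1) 0) := by rw [Inv.eElt, if_neg (by omega)]
        cases hpar : Nat.beq (t.2.2.getD (f - 1) 0 % 2) 0
        · simp only [hpar, cond_false] at hgen
          have e : I.eElt T.E f = z * I.eElt S.E (t.2.2.getD (f - 1) 0 / 2) := Subtype.ext (code_injective (by
            rw [hef, (Inv.elt_at hI hmemf).2, hgen, Subgroup.coe_mul, code_mul, hk.2, e_code _ hble, htk]))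
          rw [e, map_mul]
          exact (Commute.mul_right hyz (hyE _ hble) : Commute y _)
        · simp only [hpar, cond_true] at hgen
          have e : I.eElt T.E f = I.eElt S.E (t.2.2.getD (f - 1) 0 / 2) := Subtype.ext (code_injective (by
            rw [hef, (Inv.elt_at hI hmemf).2, hgen, e_code _ hble]))
          rw [e]
          exact hyE _ hble
      · simp only [hb, cond_true, Bool.and_eq_true, Nat.blt_eq, Nat.beq_eq, Nat.ble_eq] at hkid
        obtain ⟨⟨⟨hble, hlt⟩, hcls⟩, hgen⟩ := hkid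
        refine hlow _ hlt hcls y fun e he => ?_
        rw [Set.mem_singleton_iff.1 he]
        have e' : I.elt (t.2.2.getD 1 0) = z * I.eElt S.E (t.2.2.getD 0 0) := Subtype.ext (code_injective (by
          rw [(Inv.elt_at hI hlt).2, hgen, Subgroup.coe_mul, code_mul, hk.2, e_code _ hble, htk]))
        rw [e', map_mul]
        exact (Commute.mul_right hyz (hyE _ hble) : Commute y _)

theorem inside_class : ∀ c, ∀ k < I.nI, I.cls.at k = c → Inside H {ψ (I.elt k)} := by
  intro c
  induction c using Nat.strong_induction_on with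
  | _ c ih =>
    intro k hk hkc
    obtain ⟨hlen, -⟩ := Inv.exists_at A.hI k hk
    refine A.inside_of_root hk ?_
    rw [hkc] at hlen ⊢
    rcases Nat.lt_or_ge c F.nbase with hb | hb
    · exact A.base c hb hlen
    have hl := A.hF.last c hb hlen
    simp only [Inv.chkLast, Bool.and_eq_true, Nat.blt_eq, Nat.beq_eq, beq_iff_eq] at hl
    obtain ⟨⟨hlt, hcls⟩, hE⟩ := hl
    have h := A.state_inside _ hlt _ rfl fun m hm hm' => ih _ (hcls ▸ hm') m hm rfl
    refine h.mono fun y hy e he => ?_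
    obtain ⟨a, ha, rfl⟩ := he
    show y * ψ (I.eElt _ a) = ψ (I.eElt _ a) * y
    rw [hE] at ha ⊢
    rcases Nat.eq_zero_or_pos a with rfl | h0
    · rw [Inv.eElt, if_pos rfl, map_one, one_mul, mul_one]
    · have : a = 1 := by
        have : a ≤ 1 := ha
        omega
      subst this
      rw [Inv.eElt, if_neg (by omega)]
      exact hy _ rfl

/-- Every involution is controlled, so `H` is everything. -/
theorem eq_top (h2 : 2 ≤ I.roots.length) {c : ℕ} (hc : c < I.roots.length) (hc0 : c ≠ 0) : H = ⊤ := by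
  obtain ⟨hr0, hcls0⟩ := A.hF.roots 0 (by omega)
  obtain ⟨hr, hcls⟩ := A.hF.roots c hc
  refine eq_top_of_good (t := ψ (I.elt (I.roots.getD 0 (0, [])).1)) (k := ψ (I.elt (I.roots.getD c (0, [])).1))
    (fun x hx hx2 hx1 => ?_) (A.mem _) (by rw [← map_mul, Inv.elt_sq A.hI, map_one])
    (fun e => Inv.elt_ne A.hI hr0 (A.inj (e.trans (map_one ψ).symm))) (A.mem _)
    (by rw [← map_mul, Inv.elt_sq A.hI, map_one])
    (fun e => Inv.elt_ne A.hI hr (A.inj (e.trans (map_one ψ).symm))) ?_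
  · obtain ⟨z, rfl⟩ : x ∈ ψ.range := A.range.symm ▸ hx
    have hz2 : z * z = 1 := A.inj (by rw [map_mul, hx2, map_one])
    have hz1 : z ≠ 1 := fun e => hx1 (by rw [e, map_one])
    obtain ⟨k, hk⟩ := A.all z hz2 hz1
    have hzk : z = I.elt k := Subtype.ext (Inv.At.eq hk (Inv.elt_at A.hI hk.1))
    have hins : Inside H {ψ z} := hzk ▸ A.inside_class _ k hk.1 rfl
    exact ⟨hins, A.good_of_inside hz2 hz1 hins⟩
  · intro y hy e
    obtain ⟨d, rfl⟩ : y ∈ ψ.range := A.range.symm ▸ hy
    rw [← map_inv, ← map_mul, ← map_mul] at e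
    have := Inv.iCls_conj A.hI hr0.le hr.le (A.inj e)
    simp only [Inv.iCls, show Nat.blt (I.roots.getD 0 (0, [])).1 I.nI = true from Nat.ble_eq_true_of_le hr0,
      show Nat.blt (I.roots.getD c (0, [])).1 I.nI = true from Nat.ble_eq_true_of_le hr, cond_true, hcls0, hcls] at this
    exact hc0 this.symm

end Ambient

end Transport

end Cfsg.Agent.Recog.ThreeCentSp.Cert
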