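import Cfsg.Agent.Lib.Recog.ThreeCentSp.Cert.Pairs
import Cfsg.Agent.Lib.Recog.ThreeCentSp.Cert.Spread
import Cfsg.Agent.Lib.Recog.ThreeCentSp.Cert.FullChecks
import Cfsg.Agent.Lib.Recog.ThreeCentSp.Cert.FullFusion
import Cfsg.Agent.Lib.Classical.BinaryTransport

/-! The certificate in the larger case. -/

set_option autoImplicit false
set_option linter.style.haveILetI false

open Cfsg.Agent.Classical.SpSix (G0)
open Cfsg.Agent.Spor

namespace Cfsg.Agent.Recog.ThreeCentSp.Cert

/-- The model maps faithfully onto the group generated by the six involutions. -/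
theorem full_model {G : Type*} [Group G] {g : ℕ → G} (h : RelF relJ relA relX relR g) :
    Nat.card (mS fullMdl.I.n) = 1451520 ∧ ∃ ψ : mS fullMdl.I.n →* G, Function.Injective ψ ∧
      ψ.range = Subgroup.closure (g '' Set.Iio 6) ∧ ∀ i (hi : i < fullMdl.I.n), ψ ⟨mG i, mG_mem hi⟩ = g i := by
  obtain ⟨x, hx⟩ : ∃ x : ℕ → G × G0, ∀ i, x i = (g i, mG i) := ⟨_, fun _ => rfl⟩
  have hsq : ∀ i < 6, x i * x i = 1 := fun i hi => by
    rw [hx]
    exact Prod.ext (h.sq i hi) (mG_sq i)
  have hrel : ∀ w ∈ baseF, Cos.ev (cut 6 x) w = 1 := by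
    intro w hw
    rw [ev_cut 6 w (List.all_eq_true.1 baseF_below w hw)]
    refine Prod.ext ?_ ?_
    · have e := Cos.ev_map (MonoidHom.fst G G0) x w
      rw [show (fun s => (MonoidHom.fst G G0) (x s)) = g from funext fun s => by rw [hx]; rfl] at e
      exact e.trans (base_of_RelF h w hw)
    · have e := Cos.ev_map (MonoidHom.snd G G0) x w
      rw [show (fun s => (MonoidHom.snd G G0) (x s)) = mG from funext fun s => by rw [hx]; rfl] at e
      exact e.trans (mG_base w hw)
  have hb := card_le_of_val (h := x) (n := 6) (bound_six (g := cut 6 x) (cut_sq hsq) hrel)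
    (fun i hi => List.mem_range.2 (by omega)) fun i hi => by
      interval_cases i <;> simp [extend, cut]
  obtain ⟨hN, σ, hσ, hrange⟩ := exists_map fullMdl_ok (MonoidHom.fst G G0) (MonoidHom.snd G G0) x
    (fun i _ => by rw [hx]; rfl) hb
  have hone : (1 : ℕ) < fullMdl.I.n := Nat.le.step (Nat.le.step (Nat.le.step (Nat.le.step Nat.le.refl)))
  have hzero : (0 : ℕ) < fullMdl.I.n := Nat.lt_trans Nat.zero_lt_one hone
  have himg : ∀ i (hi : i < fullMdl.I.n), ((MonoidHom.fst G G0).comp σ) ⟨mG i, mG_mem hi⟩ = g i := fun i hi =>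
    (congrArg (MonoidHom.fst G G0) (hσ i hi)).trans (by rw [hx]; rfl)
  refine ⟨hN, _, injective_of_axis fullMdl_ok hN hone _ fun e => h.hne ?_, ?_, himg⟩
  · exact (congrArg₂ (· * ·) (himg 0 hzero) (himg 1 hone)).symm.trans ((map_mul _ _ _).symm.trans e)
  · exact hrange.trans (congrArg Subgroup.closure (Set.image_congr fun i _ => by rw [hx]; rfl))

/-- The model is the whole symplectic group. -/
theorem mS_six (hN : Nat.card (mS fullMdl.I.n) = 1451520) : mS fullMdl.I.n = ⊤ :=
  haveI : Finite G0 := Subtype.finite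
  Subgroup.eq_top_of_card_eq _ (hN.trans Cfsg.Agent.Classical.SpSix.card_G0.symm)

theorem full_iso {G : Type*} [Group G] [Finite G] {g : ℕ → G} (h : RelF relJ relA relX relR g) (F₂ : Type*) [Field F₂]
    [Fintype F₂] (hF : Fintype.card F₂ = 2) :
    Nonempty (Subgroup.closure (g '' Set.Iio 6) ≃* Matrix.symplecticGroup (Fin 3) F₂) := by
  obtain ⟨hN, ψ, hinj, hrange, -⟩ := full_model h
  haveI : CharP F₂ 2 := charP_of_card_eq_prime hF
  obtain ⟨e⟩ := Cfsg.Agent.Classical.Transport.symplectic_congr (l := Fin 3) (ZMod.ringEquiv F₂ hF)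
  exact ⟨(((MulEquiv.subgroupCongr (mS_six hN)).trans Subgroup.topEquiv).symm.trans
    ((MonoidHom.ofInjective hinj).trans (MulEquiv.subgroupCongr hrange))).symm.trans e⟩

theorem fullInv_root : fullInv.inv.tbl.at (fullInv.roots.getD 0 (0, [])).1 = mC 2 := by decide +kernel

theorem full_top {G : Type*} [Group G] [Finite G] {g : ℕ → G} (h : RelF relJ relA relX relR g)
    (hc : Controls (Subgroup.closure (g '' Set.Iio 6)) g) : Subgroup.closure (g '' Set.Iio 6) = ⊤ := by
  obtain ⟨hN, ψ, hinj, hrange, himg⟩ := full_model h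
  have A : Ambient fullInv fullFus (Subgroup.closure (g '' Set.Iio 6)) ψ :=
    { hI := fullMdl_ok.inv
      hF := fullFus_ok
      inj := hinj
      range := hrange
      all := fun x hx hx1 => fullMdl_ok.exists_index hN x.2 (congrArg Subtype.val hx)
        fun e => hx1 (Subtype.ext e)
      three := fun w hw ho => hc.three w hw ho
      base := fun c hc' hlen => by
        obtain rfl : c = 0 := by
          have : c < 1 := hc'
          omega
        obtain ⟨hr, -⟩ := fullFus_ok.roots 0 hlen
        have hlt : 2 < fullInv.n := Nat.le.step (Nat.le.step (Nat.le.step Nat.le.refl))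
        have e : fullInv.elt (fullInv.roots.getD 0 (0, [])).1 = ⟨mG 2, mG_mem hlt⟩ :=
          Subtype.ext (code_injective ((Inv.elt_at fullMdl_ok.inv hr).2.trans
            (fullInv_root.trans (code_mG _).symm)))
        intro y hy
        have hy' := hy _ rfl
        have e' : ψ (fullInv.elt (fullInv.roots.getD 0 (0, [])).1) = g 2 := (congrArg ψ e).trans (himg _ hlt)
        exact hc.swap y ((congrArg (y * ·) e').symm.trans (hy'.trans (congrArg (· * y) e'))) }
  exact A.eq_top (by decide) (c := 3) (by decide) (by decide)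

end Cfsg.Agent.Recog.ThreeCentSp.Cert
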