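import Cfsg.Agent.Lib.Recog.ThreeCentSp.Cert.Model

/-! Subgroups of the model from lists of their elements; the involutions of the model. -/

set_option autoImplicit false
set_option linter.style.haveILetI false

open Cfsg.Agent.Classical.SpSix (G0)

namespace Cfsg.Agent.Recog.ThreeCentSp.Cert

open Cfsg.Agent.Spor
open Cfsg.Agent.Spor.Cos (ev_mem ev_reverse force_eq)

/-- The group generated by the first involutions of the model. -/
def mS (n : ℕ) : Subgroup G0 := Subgroup.closure (mG '' Set.Iio n)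

theorem mG_mem {n i : ℕ} (h : i < n) : mG i ∈ mS n := Subgroup.subset_closure ⟨i, h, rfl⟩

theorem word_mem {n : ℕ} {w : List ℕ} (h : w.all (fun s => Nat.blt s n) = true) : Cos.ev mG w ∈ mS n := by
  refine ev_mem w fun s hs => mG_mem ?_
  exact Nat.le_of_ble_eq_true (List.all_eq_true.1 h s hs)

theorem inv_word (w : List ℕ) : (Cos.ev mG w)⁻¹ = Cos.ev mG w.reverse :=
  (ev_reverse (g := mG) (n := w.sum + 1) (fun s _ => mG_sq s) w fun s hs => by
    have := List.single_le_sum (fun x _ => Nat.zero_le x) s hs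
    omega).symm

theorem Distinct.inj (D : Distinct) {M : ℕ} (h : ∀ k < M, D.chk M k = true) {k l : ℕ} (hk : k < M) (hl : l < M)
    (e : D.tbl.at k = D.tbl.at l) : k = l := by
  simp only [Distinct.chk, force_eq, Bool.and_eq_true, Bool.or_eq_true, Nat.blt_eq, Nat.beq_eq] at h
  have hmono : ∀ b, b < M → ∀ a, a < b → D.srt.at a < D.srt.at b := by
    intro b
    induction b with
    | zero => intro _ a ha; omega
    | succ b ih =>
      intro hb a ha
      have hstep : D.srt.at b < D.srt.at (b + 1) := by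
        rcases (h b (by omega)).2 with e' | e'
        · omega
        · exact e'
      rcases Nat.lt_or_ge a b with ha' | ha'
      · exact (ih (by omega) a ha').trans hstep
      · obtain rfl : a = b := by omega
        exact hstep
  have hpk := (h k hk).1
  have hpl := (h l hl).1
  have hp : D.pos.at k = D.pos.at l := by
    rcases lt_trichotomy (D.pos.at k) (D.pos.at l) with c | c | c
    · have := hmono _ hpl.1.1 _ c; rw [hpk.1.2, hpl.1.2, e] at this; exact absurd this (lt_irrefl _)
    · exact c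
    · have := hmono _ hpk.1.1 _ c; rw [hpk.1.2, hpl.1.2, e] at this; exact absurd this (lt_irrefl _)
  rw [← hpk.2, ← hpl.2, hp]

namespace Sub

variable (P : Sub)

/-- the numbers of the generators -/
def gc : List ℕ := P.gens.map (evN mC)

/-- The subgroup. -/
def grp : Subgroup G0 := Subgroup.closure {x | ∃ w ∈ P.gens, Cos.ev mG w = x}

variable {P}

theorem grp_le {n : ℕ} (hg : P.gens.all (fun w => w.all fun s => Nat.blt s n) = true) : P.grp ≤ mS n :=
  (Subgroup.closure_le _).2 fun _ ⟨_, hw, e⟩ => e ▸ word_mem (List.all_eq_true.1 hg _ hw)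

theorem gc_getD {i : ℕ} (hi : i < P.gens.length) : P.gc.getD i oneN = code (Cos.ev mG (P.gens.getD i [])) := by
  rw [code_ev, gc, List.getD_eq_getElem _ _ (by simpa using hi), List.getElem_map, List.getD_eq_getElem _ _ hi]

theorem exists_elem (h : ∀ k < P.M, P.chk P.gc k = true) : ∀ k < P.M, ∃ x ∈ P.grp, code x = P.el.tbl.at k := by
  intro k
  induction k using Nat.strong_induction_on with
  | _ k ih =>
    intro hk
    have h1 := h k hk
    simp only [Sub.chk, Sub.chkPar, force_eq, Bool.and_eq_true] at h1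
    have h2 := h1.1.2
    cases hb : Nat.beq k 0
    · simp only [hb, cond_false, Bool.and_eq_true, Nat.blt_eq, Nat.beq_eq] at h2
      obtain ⟨⟨hlt, hi⟩, e⟩ := h2
      obtain ⟨x, hx, ex⟩ := ih _ hlt (hlt.trans hk)
      rw [gc, List.length_map] at hi
      refine ⟨x * Cos.ev mG (P.gens.getD (P.par.at k % 16) []), mul_mem hx (Subgroup.subset_closure
        ⟨_, by rw [List.getD_eq_getElem _ _ hi]; exact List.getElem_mem _, rfl⟩), ?_⟩
      rw [code_mul, ex, e, gc_getD hi]
    · simp only [hb, cond_true, Nat.beq_eq] at h2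
      exact ⟨1, one_mem _, code_one.trans h2.symm⟩

theorem mem_list (h : ∀ k < P.M, P.chk P.gc k = true) (hM : 0 < P.M) {x : G0} (hx : x ∈ P.grp) :
    ∃ k < P.M, code x = P.el.tbl.at k := by
  have hfin : Finite G0 := Subtype.finite
  rw [grp, ← Subgroup.mem_toSubmonoid, Subgroup.closure_toSubmonoid_of_finite] at hx
  induction hx using Submonoid.closure_induction_right with
  | one =>
    have h1 := h 0 hM
    simp only [Sub.chk, Sub.chkPar, force_eq, Bool.and_eq_true] at h1
    have h2 := h1.1.2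
    simp only [show Nat.beq 0 0 = true from rfl, cond_true, Nat.beq_eq] at h2
    exact ⟨0, hM, code_one.trans h2.symm⟩
  | mul_right y _ z hz ih =>
    obtain ⟨w, hw, rfl⟩ := hz
    obtain ⟨k, hk, ek⟩ := ih
    obtain ⟨i, hi, rfl⟩ := List.getElem_of_mem hw
    have h1 := h k hk
    simp only [Sub.chk, Sub.chkMul, force_eq, Bool.and_eq_true, List.all_eq_true, List.mem_range, Nat.blt_eq,
      Nat.beq_eq] at h1
    obtain ⟨ht, e⟩ := h1.2 i (by simpa [gc] using hi)
    refine ⟨_, ht, ?_⟩
    rw [code_mul, ek, ← e, gc_getD hi, List.getD_eq_getElem _ _ hi]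

theorem card_grp (h : ∀ k < P.M, P.chk P.gc k = true) (hM : 0 < P.M) : Nat.card P.grp = P.M := by
  have hfin : Finite G0 := Subtype.finite
  choose f hf hc using exists_elem h
  let F : Fin P.M → P.grp := fun k => ⟨f k.1 k.2, hf k.1 k.2⟩
  have hF : Function.Bijective F := by
    refine ⟨fun a b e => Fin.ext (P.el.inj (fun k hk => ?_) a.2 b.2 ?_), fun ⟨x, hx⟩ => ?_⟩
    · have h1 := h k hk
      simp only [Sub.chk, Bool.and_eq_true] at h1
      exact h1.1.1
    · rw [← hc a.1 a.2, ← hc b.1 b.2]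
      exact congrArg (fun z : P.grp => code (z : G0)) e
    · obtain ⟨k, hk, e⟩ := mem_list h hM hx
      exact ⟨⟨k, hk⟩, Subtype.ext (code_injective ((hc k hk).trans e.symm))⟩
  rw [← Nat.card_eq_of_bijective F hF, Nat.card_fin]

/-- An element of prime order goes into the subgroup when its order is the full power of that prime. -/
theorem exists_conj_mem (h : ∀ k < P.M, P.chk P.gc k = true) (hM : 0 < P.M) {S : Subgroup G0} (hS : P.grp ≤ S)
    {p e : ℕ} [hp : Fact p.Prime] (hPM : P.M = p ^ e) (hmax : ¬ p ∣ Nat.card S / P.M) {x : G0} (hx : x ∈ S)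
    (hpx : x ^ p = 1) : ∃ c ∈ S, c⁻¹ * x * c ∈ P.grp := by
  have hfin : Finite G0 := Subtype.finite
  set Q : Subgroup S := P.grp.subgroupOf S with hQ
  have hcardQ : Nat.card Q = P.M := by
    rw [hQ, Nat.card_congr (Subgroup.subgroupOfEquivOfLe hS).toEquiv, card_grp h hM]
  have hQp : IsPGroup p Q := IsPGroup.of_card (hcardQ.trans hPM)
  have hidx : ¬ p ∣ Q.index := by
    have hmul := Q.card_mul_index
    rw [hcardQ] at hmul
    rwa [← hmul, Nat.mul_div_cancel_left _ hM] at hmax
  obtain ⟨T, hT⟩ : ∃ T : Sylow p S, (T : Subgroup S) = Q := ⟨hQp.toSylow hidx, rfl⟩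
  have hxp : IsPGroup p (Subgroup.zpowers (⟨x, hx⟩ : S)) := by
    intro y
    obtain ⟨k, hk⟩ := Subgroup.mem_zpowers_iff.1 y.2
    refine ⟨1, Subtype.ext ?_⟩
    rw [pow_one, Subgroup.coe_pow, ← hk, ← zpow_natCast, ← zpow_mul, mul_comm, zpow_mul, zpow_natCast,
      show (⟨x, hx⟩ : S) ^ p = 1 from Subtype.ext hpx, one_zpow, Subgroup.coe_one]
  obtain ⟨R, hR⟩ := hxp.exists_le_sylow
  obtain ⟨c, hc⟩ := MulAction.exists_smul_eq S T R
  have hmem : (⟨x, hx⟩ : S) ∈ (R : Subgroup S) := hR (Subgroup.mem_zpowers _)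
  rw [← hc, Sylow.coe_subgroup_smul, hT, Subgroup.mem_pointwise_smul_iff_inv_smul_mem] at hmem
  refine ⟨c, c.2, ?_⟩
  simpa [hQ, Subgroup.mem_subgroupOf, MulAut.smul_def, MulAut.conj_symm_apply, MulAut.inv_apply] using hmem

end Sub

namespace Inv

variable (I : Inv)

/-- An element with a given place in the list. -/
def At (x : G0) (k : ℕ) : Prop := k < I.nI ∧ code x = I.inv.tbl.at k

variable {I}

theorem At.unique (h : ∀ k < I.nI, I.chk k = true) {x : G0} {k l : ℕ} (hk : I.At x k) (hl : I.At x l) : k = l :=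
  I.inv.inj (fun i hi => by
    have h1 := h i hi
    simp only [Inv.chk, Bool.and_eq_true] at h1
    exact h1.1.1) hk.1 hl.1 (hk.2.symm.trans hl.2)

theorem At.eq {x y : G0} {k : ℕ} (hx : I.At x k) (hy : I.At y k) : x = y :=
  code_injective (hx.2.trans hy.2.symm)

theorem At.sq (h : ∀ k < I.nI, I.chk k = true) {x : G0} {k : ℕ} (hx : I.At x k) : x * x = 1 ∧ x ≠ 1 := by
  have h1 := h k hx.1
  simp only [Inv.chk, Inv.chkConj, force_eq, Bool.and_eq_true, Nat.beq_eq, Bool.not_eq_true'] at h1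
  refine ⟨eq_one_of_code (by rw [code_mul, hx.2]; exact h1.2.1.1), fun e => ?_⟩
  have := h1.2.1.2
  rw [← hx.2, e, code_one] at this
  simp at this

/-- Every place is taken, by an element conjugate to the representative of its class. -/
theorem exists_at (h : ∀ k < I.nI, I.chk k = true) : ∀ k < I.nI, I.cls.at k < I.roots.length ∧
    ∃ x ∈ mS I.n, I.At x k ∧ ∃ c ∈ mS I.n, c * Cos.ev mG (I.roots.getD (I.cls.at k) (0, [])).2 * c⁻¹ = x := by
  intro k
  induction k using Nat.strong_induction_on with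
  | _ k ih =>
    intro hk
    have h1 := h k hk
    simp only [Inv.chk, Inv.chkPar, force_eq, Bool.and_eq_true] at h1
    have h2 := h1.1.2
    cases hb : Nat.beq (I.par.at k % 8) I.n
    · simp only [hb, cond_false, Bool.and_eq_true, Nat.blt_eq, Nat.beq_eq] at h2
      obtain ⟨⟨⟨hlt, hs⟩, hcl⟩, e⟩ := h2
      obtain ⟨hlen, x, hx, hat, c, hc, hcx⟩ := ih _ hlt (hlt.trans hk)
      refine ⟨hcl ▸ hlen, mG (I.par.at k % 8) * x * mG (I.par.at k % 8),
        mul_mem (mul_mem (mG_mem hs) hx) (mG_mem hs), ⟨hk, ?_⟩, mG (I.par.at k % 8) * c,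
        mul_mem (mG_mem hs) hc, ?_⟩
      · rw [code_mul, code_mul, code_mG, hat.2, e]
      · rw [← hcl, ← hcx, mul_inv_rev, inv_eq_of_mul_eq_one_right (mG_sq (I.par.at k % 8))]
        simp only [mul_assoc]
    · simp only [hb, cond_true, Bool.and_eq_true, Nat.blt_eq, Nat.beq_eq] at h2
      obtain ⟨⟨⟨hlen, -⟩, e⟩, hw⟩ := h2
      refine ⟨hlen, _, word_mem hw, ⟨hk, by rw [code_ev, e]⟩, 1, one_mem _, by rw [one_mul, inv_one, mul_one]⟩

/-- Conjugation keeps the class. -/
theorem At.conj (h : ∀ k < I.nI, I.chk k = true) {c : G0} (hc : c ∈ mS I.n) {x : G0} {k : ℕ} (hx : I.At x k) :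
    ∃ l, I.At (c * x * c⁻¹) l ∧ I.cls.at l = I.cls.at k := by
  have hfin : Finite G0 := Subtype.finite
  rw [mS, ← Subgroup.mem_toSubmonoid, Subgroup.closure_toSubmonoid_of_finite] at hc
  induction hc using Submonoid.closure_induction_left with
  | one => exact ⟨k, by simpa using hx, rfl⟩
  | mul_left y hy z _ ih =>
    obtain ⟨s, hs, rfl⟩ := hy
    obtain ⟨l, hl, hcl⟩ := ih
    have h1 := h l hl.1
    simp only [Inv.chk, Inv.chkConj, force_eq, Bool.and_eq_true, List.all_eq_true, List.mem_range, Nat.blt_eq,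
      Nat.beq_eq] at h1
    obtain ⟨⟨ht, hct⟩, e⟩ := h1.2.2 s hs
    refine ⟨_, ⟨ht, ?_⟩, hct.trans hcl⟩
    rw [← e, mul_inv_rev, inv_eq_of_mul_eq_one_right (mG_sq s),
      show mG s * z * x * (z⁻¹ * mG s) = mG s * (z * x * z⁻¹) * mG s by simp only [mul_assoc],
      code_mul, code_mul, code_mG, hl.2]

end Inv

end Cfsg.Agent.Recog.ThreeCentSp.Cert
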