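import Mathlib

/-!
Vocabulary shared by the local analysis and the certificates: six involutions of a group, named
`0` (reflection of the first coordinate), `1` (its second partner, the product being the first axis),
`2`, `3` (swaps of the coordinates 12, 23), `4` (an involution normalising `⟨a⟩` outside `N(J)`),
`5` (a transvection centralising the first axis, commuting with `3`).
-/

set_option autoImplicit false

namespace Cfsg.Agent.Recog.ThreeCentSp.Cert

/-- value of a word -/
def ev {G : Type*} [Monoid G] (g : ℕ → G) : List ℕ → G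
  | [] => 1
  | i :: w => g i * ev g w

/-- a word over an alphabet of words -/
def flat (al : List (List ℕ)) (w : List ℕ) : List ℕ := (w.map fun i => al.getD i []).flatten

/-- generators of `N(J) ∩ N(⟨a⟩)` as words, followed by `4` -/
def alphaA : List (List ℕ) :=
  [[2], [3], [0, 2, 0, 2, 3, 2, 0, 2, 3], [1, 2, 0, 2, 3, 2, 0, 2, 3], [4]]

/-- generators of the normaliser of the first axis as words, followed by `5` -/
def alphaX : List (List ℕ) :=
  [[0], [1], [2, 0, 2], [2, 1, 2], [3, 2, 0, 2, 3], [3, 2, 1, 2, 3], [3], [5]]

/-- the reflection of the third coordinate -/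
def wAz : List ℕ := [3, 2, 0, 2, 3]

/-- the conjugate of `5` that centralises the third axis and commutes with `2` -/
def wR : List ℕ := [3, 2, 5, 2, 3]

/-- Relations holding in the smaller case. The lists are supplied by the certificates. -/
structure RelS {G : Type*} [Group G] (relJ relA : List (List ℕ)) (relC : List (List ℕ × List ℕ))
    (g : ℕ → G) : Prop where
  sq : ∀ i < 5, g i * g i = 1
  hJ : ∀ w ∈ relJ, ev g w = 1
  hA : ∀ w ∈ relA, ev g (flat alphaA w) = 1
  hC : ∀ p ∈ relC, ev g (flat alphaA p.1) * (ev g wAz * ev g (flat alphaA p.2) * ev g wAz) =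
    ev g wAz * ev g (flat alphaA p.2) * ev g wAz * ev g (flat alphaA p.1)
  hne : g 0 * g 1 ≠ 1

/-- Relations holding in the larger case. -/
structure RelF {G : Type*} [Group G] (relJ relA : List (List ℕ)) (relX relR : List (List ℕ))
    (g : ℕ → G) : Prop where
  sq : ∀ i < 6, g i * g i = 1
  hJ : ∀ w ∈ relJ, ev g w = 1
  hA : ∀ w ∈ relA, ev g (flat alphaA w) = 1
  hX : ∀ w ∈ relX, ev g (flat alphaX w) = 1
  hR : ∀ u ∈ relR, ev g wR * ev g (flat alphaA u) = ev g (flat alphaA u) * ev g wR
  hne : g 0 * g 1 ≠ 1

/-- `H` controls everything around its elements of order three and centralises fully the swap. -/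
structure Controls {G : Type*} [Group G] (H : Subgroup G) (g : ℕ → G) : Prop where
  three : ∀ w ∈ H, orderOf w = 3 → ∀ y : G, y * w * y⁻¹ ∈ H → y ∈ H
  swap : ∀ y : G, y * g 2 = g 2 * y → y ∈ H

end Cfsg.Agent.Recog.ThreeCentSp.Cert
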