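import Cfsg.Agent.Lib.Recog.ThreeCentSp.Cert.Interface

/-!
The lists of relations.  In the model `4` is the involution of `Sp(6, 2)` which sends the basis
`e₁, f₁, e₂, f₂, e₃, f₃` (bits `0, ..., 5`, planes `⟨eᵢ, fᵢ⟩`) to `62, 41, 59, 38, 47, 26`: it inverts the
product of the three axes and commutes with `2`, `3` and `5`.
-/

set_option autoImplicit false

namespace Cfsg.Agent.Recog.ThreeCentSp.Cert

/-- relations of the monomial group on the three axes -/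
def relJ : List (List ℕ) :=
  [[0, 3, 0, 3], [1, 3, 1, 3], [0, 1, 0, 1, 0, 1], [2, 3, 2, 3, 2, 3], [0, 2, 0, 2, 0, 2, 0, 2], [0, 2, 1, 2,
    0, 2, 1, 2], [1, 2, 1, 2, 1, 2, 1, 2]]

/-- relations of the normaliser of the product of the axes, over `alphaA` -/
def relA : List (List ℕ) :=
  [[0, 4, 0, 4], [0, 1, 0, 1, 0, 1], [2, 4, 2, 4, 2, 4], [1, 3, 4, 3, 4, 3, 4], [2, 3, 4, 3, 2, 4, 3, 4], [0,
    2, 3, 0, 3, 2, 0, 3, 0, 3]]

/-- commuting pairs in the conjugate quaternion groups, over `alphaA` -/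
def relC : List (List ℕ × List ℕ) :=
  [([1, 0, 2, 4, 3, 0, 1, 4], [1, 0, 2, 4, 3, 0, 1, 4])]

/-- relations of the normaliser of the first axis, over `alphaX` -/
def relX : List (List ℕ) :=
  [[0, 4, 0, 4], [0, 5, 0, 5], [0, 6, 0, 6], [0, 7, 0, 7], [1, 4, 1, 4], [1, 5, 1, 5], [1, 6, 1, 6], [1, 7, 1,
    7], [2, 6, 4, 6], [3, 5, 3, 5], [3, 6, 5, 6], [4, 7, 4, 7], [6, 7, 6, 7], [0, 1, 0, 1, 0, 1], [4, 5, 4, 5,
    4, 5], [5, 7, 5, 7, 5, 7], [2, 3, 7, 3, 2, 4, 5, 4, 6, 7, 5, 4, 7, 3, 7, 5]]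

/-- elements of the quaternion group centralised by `wR`, over `alphaA` -/
def relR : List (List ℕ) :=
  [[1, 0, 2, 3, 0, 1, 2, 4]]

end Cfsg.Agent.Recog.ThreeCentSp.Cert
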