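import Cfsg.Agent.Lib.Recog.ThreeCentSp.Cert.Lists
import Cfsg.Agent.Lib.Spor.Cos.Bound

/-! The relations as words in the six involutions. -/

set_option autoImplicit false

namespace Cfsg.Agent.Recog.ThreeCentSp.Cert

open Cfsg.Agent.Spor

theorem ev_eq {G : Type*} [Group G] (g : ℕ → G) : ∀ w : List ℕ, Cos.ev g w = ev g w
  | [] => rfl
  | s :: w => by simp only [Cos.ev, ev, ev_eq g w]

/-- a commutator word of two words in involutions -/
def comW (u v : List ℕ) : List ℕ := u ++ v ++ u.reverse ++ v.reverse

/-- a word is over the first letters -/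
def below (n : ℕ) (w : List ℕ) : Bool := w.all fun s => Nat.blt s n

/-- relations among the five -/
def baseS : List (List ℕ) :=
  relJ ++ relA.map (flat alphaA) ++
    relC.map fun p => comW (flat alphaA p.1) (wAz ++ flat alphaA p.2 ++ wAz)

/-- relations among the six -/
def baseF : List (List ℕ) :=
  relJ ++ relA.map (flat alphaA) ++ relX.map (flat alphaX) ++ relR.map fun u => comW wR (flat alphaA u)

/-- The first involutions, the others replaced by the identity. -/
def cut {G : Type*} [One G] (n : ℕ) (g : ℕ → G) (i : ℕ) : G := if i < n then g i else 1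

theorem baseS_below : baseS.all (below 5) = true := by decide +kernel

theorem baseF_below : baseF.all (below 6) = true := by decide +kernel

theorem alphas_below : (relC.all fun p => below 5 (flat alphaA p.1) && below 5 (wAz ++ flat alphaA p.2 ++ wAz)) &&
    (relR.all fun u => below 6 (flat alphaA u) && below 6 wR) = true := by decide +kernel

variable {G : Type*} [Group G] {g : ℕ → G}

theorem ev_cut (n : ℕ) : ∀ w : List ℕ, below n w = true → Cos.ev (cut n g) w = Cos.ev g w
  | [], _ => rfl
  | s :: w, h => by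
    simp only [below, List.all_cons, Bool.and_eq_true, Nat.blt_eq] at h
    simp only [Cos.ev, cut, if_pos h.1]
    exact congrArg _ (ev_cut n w h.2)

theorem cut_sq {n : ℕ} (h : ∀ i < n, g i * g i = 1) (s : ℕ) : cut n g s * cut n g s = 1 := by
  unfold cut
  split_ifs with hs
  · exact h s hs
  · exact one_mul 1

theorem ev_comW {n : ℕ} (h : ∀ i < n, g i * g i = 1) {u v : List ℕ} (hu : below n u = true) (hv : below n v = true)
    (hc : ev g u * ev g v = ev g v * ev g u) : Cos.ev g (comW u v) = 1 := by
  simp only [below, List.all_eq_true, Nat.blt_eq] at hu hv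
  rw [comW, Cos.ev_append, Cos.ev_append, Cos.ev_append, Cos.ev_reverse h u hu, Cos.ev_reverse h v hv, ev_eq, ev_eq,
    hc]
  group

theorem base_of_RelS (h : RelS relJ relA relC g) : ∀ w ∈ baseS, Cos.ev g w = 1 := by
  intro w hw
  simp only [baseS, List.mem_append, List.mem_map] at hw
  rcases hw with (hw | ⟨u, hu, rfl⟩) | ⟨p, hp, rfl⟩
  · rw [ev_eq]; exact h.hJ w hw
  · rw [ev_eq]; exact h.hA u hu
  · have hb := alphas_below
    simp only [Bool.and_eq_true, List.all_eq_true] at hb
    refine ev_comW h.sq (hb.1 p hp).1 (hb.1 p hp).2 ?_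
    have e : ev g (wAz ++ flat alphaA p.2 ++ wAz) = ev g wAz * ev g (flat alphaA p.2) * ev g wAz := by
      simp only [← ev_eq, Cos.ev_append]
    rw [e]
    exact h.hC p hp

theorem base_of_RelF (h : RelF relJ relA relX relR g) : ∀ w ∈ baseF, Cos.ev g w = 1 := by
  intro w hw
  simp only [baseF, List.mem_append, List.mem_map] at hw
  rcases hw with ((hw | ⟨u, hu, rfl⟩) | ⟨u, hu, rfl⟩) | ⟨u, hu, rfl⟩
  · rw [ev_eq]; exact h.hJ w hw
  · rw [ev_eq]; exact h.hA u hu
  · rw [ev_eq]; exact h.hX u hu
  · have hb := alphas_below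
    simp only [Bool.and_eq_true, List.all_eq_true, decide_eq_true_eq] at hb
    exact ev_comW h.sq (hb.2 u hu).2 (hb.2 u hu).1 (h.hR u hu)

end Cfsg.Agent.Recog.ThreeCentSp.Cert
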