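import Cfsg.Agent.Lib.Recog.ThreeCentSp.Cert.Checks
import Cfsg.Agent.Lib.Recog.ThreeCentSp.Cert.Words

/-! The six involutions of the model and their relations. -/

set_option autoImplicit false
set_option maxRecDepth 100000

open Cfsg.Agent.Classical.SpSix (G0 tvN)

namespace Cfsg.Agent.Recog.ThreeCentSp.Cert

/-- the centres of the transvections of the six involutions -/
def mV : List (List ℕ) := [[1], [8], [3, 24, 27], [6, 48, 54], [57, 58, 60], [6]]

/-- the product of some transvections -/
noncomputable def tvProd : List ℕ → G0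
  | [] => 1
  | v :: vs => tvN v * tvProd vs

/-- The six involutions of the model. -/
noncomputable def mG (i : ℕ) : G0 := tvProd (mV.getD i [])

theorem code_tvProd : ∀ vs : List ℕ, code (tvProd vs) = vs.foldr (fun v x => mulN (tvC v) x) oneN
  | [] => code_one
  | v :: vs => by rw [tvProd, code_mul, code_tvN, code_tvProd vs, List.foldr_cons]

theorem mV_codes : ∀ i < 6, (mV.getD i []).foldr (fun v x => mulN (tvC v) x) oneN = mC i := by decide +kernel

theorem code_mG (i : ℕ) : code (mG i) = mC i := by
  rw [mG, code_tvProd]
  rcases Nat.lt_or_ge i 6 with h | h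
  · exact mV_codes i h
  · rw [List.getD_eq_default _ _ (by simpa [mV] using h), mC, List.getD_eq_default _ _ (by simpa using h)]
    rfl

theorem code_ev (w : List ℕ) : code (Cfsg.Agent.Spor.Cos.ev mG w) = evN mC w := by
  induction w with
  | nil => exact code_one
  | cons s w ih => rw [Cfsg.Agent.Spor.Cos.ev, code_mul, code_mG, ih, evN, Cfsg.Agent.Spor.Cos.force_eq]

theorem eq_one_of_code {A : G0} (h : code A = oneN) : A = 1 := code_injective (h.trans code_one.symm)

theorem mC_sq : ∀ i < 6, mulN (mC i) (mC i) = oneN := by decide +kernel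

theorem mG_sq (i : ℕ) : mG i * mG i = 1 := by
  rcases Nat.lt_or_ge i 6 with h | h
  · exact eq_one_of_code (by rw [code_mul, code_mG, mC_sq i h])
  · rw [mG, List.getD_eq_default _ _ (by simpa [mV] using h), tvProd, one_mul]

theorem baseF_model_ok : baseF.all (fun w => Nat.beq (evN mC w) oneN) = true := by decide +kernel

theorem mG_base : ∀ w ∈ baseF, Cfsg.Agent.Spor.Cos.ev mG w = 1 := by
  intro w hw
  have h := List.all_eq_true.1 baseF_model_ok w hw
  exact eq_one_of_code ((code_ev w).trans (Nat.eq_of_beq_eq_true h))

/-- the parity of a letter: the reflections and `4` are odd -/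
def parity (i : ℕ) : Bool := Nat.beq i 0 || Nat.beq i 1 || Nat.beq i 4

theorem baseS_parity : baseS.all (fun w => Nat.beq (w.countP parity % 2) 0) = true := by decide +kernel

end Cfsg.Agent.Recog.ThreeCentSp.Cert
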