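import Cfsg.Agent.Lib.Recog.ThreeCentSp.Cert.Groups

/-! Consequences of a certificate of the involutions: the order, the classes, no proper normal subgroup avoids
the first axis. -/

set_option autoImplicit false
set_option linter.style.haveILetI false

open Cfsg.Agent.Classical.SpSix (G0)
open Cfsg.Agent.Spor

namespace Cfsg.Agent.Recog.ThreeCentSp.Cert

/-- A certified model on `n` involutions of a given order. -/
structure Mdl where
  /-- the involutions -/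
  I : Inv
  /-- the order -/
  N : ℕ
  /-- a Sylow two subgroup -/
  P : Sub
  /-- places of its involutions -/
  hit : Cfsg.Agent.Spor.Cos.Table
  /-- the other Sylow subgroups, with witnesses -/
  odds : List (ℕ × ℕ × Sub × List (ℕ × List ℕ × ℕ × ℕ))
  /-- from each class to the first axis -/
  axis : List (List (List ℕ))
  /-- power of two -/
  e : ℕ

/-- The facts to be checked. -/
structure Mdl.OK (C : Mdl) : Prop where
  inv : ∀ k < C.I.nI, C.I.chk k = true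
  pos : 0 < C.P.M
  two : ∀ k < C.P.M, C.P.chk C.P.gc k = true
  twoGens : C.P.gens.all (fun w => w.all fun s => Nat.blt s C.I.n) = true
  hit_ok : ∀ k < C.P.M, C.I.chkTwo C.P C.hit k = true
  two_pow : C.P.M = 2 ^ C.e
  two_max : ¬ 2 ∣ C.N / C.P.M
  odd_ok : ∀ o ∈ C.odds, o.1.Prime ∧ o.2.2.1.M = o.1 ^ o.2.1 ∧ ¬ o.1 ∣ C.N / o.2.2.1.M ∧ 0 < o.2.2.1.M ∧
    o.2.2.1.gens.all (fun w => w.all fun s => Nat.blt s C.I.n) = true ∧
    (∀ k < o.2.2.1.M, o.2.2.1.chk o.2.2.1.gc k = true) ∧ ∀ k < o.2.2.1.M, C.I.chkOdd o.2.2.1 o.2.2.2 k = true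
  primes : ∀ p : ℕ, p.Prime → p ∣ C.N → p = 2 ∨ ∃ o ∈ C.odds, o.1 = p
  lcm : ∀ S : ℕ, C.P.M ∣ S → (∀ o ∈ C.odds, o.2.2.1.M ∣ S) → C.N ∣ S
  axis_ok : C.I.chkAxis C.axis = true

theorem code_axis : code (mG 0 * mG 1) = mulN (mC 0) (mC 1) :=
  (code_mul _ _).trans (congrArg₂ mulN (code_mG 0) (code_mG 1))

theorem code_pow_eq (g : G0) (j : ℕ) : code (g ^ j) = powN (code g) j := by
  induction j with
  | zero => rw [pow_zero, code_one, powN]
  | succ j ih => rw [pow_succ', code_mul, ih, powN, Cos.force_eq]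

theorem code_odd_step (y : G0) (w : List ℕ) (i j : ℕ) :
    code ((y * (Cos.ev mG w * y ^ i * (Cos.ev mG w)⁻¹)) ^ j) =
      powN (mulN (code y) (mulN (mulN (evN mC w) (powN (code y) i)) (evN mC w.reverse))) j := by
  rw [code_pow_eq, code_mul, code_mul, code_mul, code_pow_eq, inv_word, code_ev, code_ev]

theorem axis_of_word {K : Subgroup G0} {r a : G0} {t : ℕ} (ht : code a = t) (hr : r ∈ K) {n : ℕ}
    (hK : ∀ w : {w : List ℕ // w.all (fun s => Nat.blt s n) = true}, ∀ x ∈ K,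
      Cos.ev mG w.1 * x * (Cos.ev mG w.1)⁻¹ ∈ K) :
    ∀ (ws : List (List ℕ)), (∀ w ∈ ws, ∀ s ∈ w, s < n) →
      (∀ z, code z = ws.foldr (fun w acc => mulN (mulN (mulN (evN mC w) (code r)) (evN mC w.reverse)) acc) oneN →
        code z = t) → a ∈ K := by
  intro ws hws e
  obtain ⟨z, hz, hze⟩ : ∃ z ∈ K, code z = ws.foldr (fun w acc => mulN (mulN (mulN (evN mC w) (code r))
      (evN mC w.reverse)) acc) oneN := by
    clear e
    induction ws with
    | nil => exact ⟨1, one_mem _, by rw [List.foldr_nil, code_one]⟩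
    | cons w ws ih =>
      obtain ⟨z, hz, e⟩ := ih fun v hv => hws v (List.mem_cons_of_mem _ hv)
      refine ⟨Cos.ev mG w * r * (Cos.ev mG w)⁻¹ * z,
        mul_mem (hK ⟨w, List.all_eq_true.2 fun s hs => ?_⟩ r hr) hz, ?_⟩
      · exact Nat.ble_eq_true_of_le (hws w List.mem_cons_self s hs)
      · rw [code_mul, code_mul, code_mul, inv_word, code_ev, code_ev, e, List.foldr_cons]
  have h2 : code z = code a := (e z hze).trans ht.symm
  rwa [code_injective h2] at hz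

namespace Mdl.OK

variable {C : Mdl} (hC : C.OK)

include hC

theorem dvd_card : C.N ∣ Nat.card (mS C.I.n) := by
  refine hC.lcm _ ?_ fun o ho => ?_
  · rw [← Sub.card_grp hC.two hC.pos]
    exact Subgroup.card_dvd_of_le (Sub.grp_le hC.twoGens)
  · obtain ⟨-, -, -, hpos, hg, hchk, -⟩ := hC.odd_ok o ho
    rw [← Sub.card_grp hchk hpos]
    exact Subgroup.card_dvd_of_le (Sub.grp_le hg)

variable (hN : Nat.card (mS C.I.n) = C.N)

include hN

/-- Every involution is listed. -/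
theorem exists_index {x : G0} (hx : x ∈ mS C.I.n) (h2 : x * x = 1) (h1 : x ≠ 1) : ∃ k, C.I.At x k := by
  obtain ⟨c, hc, hm⟩ := Sub.exists_conj_mem (p := 2) hC.two hC.pos (Sub.grp_le hC.twoGens) hC.two_pow
    (by rw [hN]; exact hC.two_max) hx (by rw [pow_two, h2])
  obtain ⟨k, hk, e⟩ := Sub.mem_list hC.two hC.pos hm
  have h := hC.hit_ok k hk
  simp only [Inv.chkTwo, Cos.force_eq, ← e, Bool.or_eq_true, Nat.beq_eq, Bool.not_eq_true', Bool.and_eq_true,
    Nat.blt_eq] at h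
  rcases h with (h | h) | ⟨ht, et⟩
  · exact absurd (by simpa [mul_assoc] using congrArg (fun z => c * z * c⁻¹) (eq_one_of_code h)) h1
  · rw [← code_mul, show c⁻¹ * x * c * (c⁻¹ * x * c) = c⁻¹ * (x * x) * c by group, h2, mul_one, inv_mul_cancel,
      code_one] at h
    simp at h
  · obtain ⟨l, hl, -⟩ := Inv.At.conj hC.inv hc (k := C.hit.at k) ⟨ht, et⟩
    exact ⟨l, by simpa [mul_assoc] using hl⟩

/-- A nontrivial normal subgroup contains the first axis. -/
theorem axis_mem {K : Subgroup G0} (hKS : K ≤ mS C.I.n) (hK : ∀ c ∈ mS C.I.n, ∀ x ∈ K, c * x * c⁻¹ ∈ K)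
    (hne : K ≠ ⊥) : mG 0 * mG 1 ∈ K := by
  have hfin : Finite G0 := Subtype.finite
  obtain ⟨z, hzK, k, hk⟩ : ∃ z ∈ K, ∃ k, C.I.At z k := by
    have h1 : Nat.card K ≠ 1 := fun e => hne (Subgroup.card_eq_one.1 e)
    obtain ⟨p, hp, hpd⟩ := Nat.exists_prime_and_dvd h1
    haveI : Fact p.Prime := ⟨hp⟩
    obtain ⟨⟨x, hxK⟩, hx⟩ := exists_prime_orderOf_dvd_card' p hpd
    rw [← Subgroup.orderOf_coe] at hx
    have hx1 : x ≠ 1 := fun e => by
      simp only [e, orderOf_one] at hx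
      exact hp.ne_one hx.symm
    have hxp : x ^ p = 1 := hx ▸ pow_orderOf_eq_one x
    rcases hC.primes p hp (hN ▸ hpd.trans (Subgroup.card_dvd_of_le hKS)) with rfl | ⟨o, ho, rfl⟩
    · exact ⟨x, hxK, exists_index hC hN (hKS hxK) (by rw [← pow_two, hxp]) hx1⟩
    obtain ⟨-, hpow, hmax, hpos, hg, hchk, hwit⟩ := hC.odd_ok o ho
    obtain ⟨c, hc, hm⟩ := Sub.exists_conj_mem (p := o.1) hchk hpos (Sub.grp_le hg) hpow (by rw [hN]; exact hmax)
      (hKS hxK) hxp
    obtain ⟨k, hk, e⟩ := Sub.mem_list hchk hpos hm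
    have h := hwit k hk
    simp only [Inv.chkOdd, Cos.force_eq, ← e, Bool.or_eq_true, Nat.beq_eq, Bool.and_eq_true, Nat.blt_eq] at h
    rcases h with h | ⟨⟨hw, ht⟩, et⟩
    · exact absurd (by simpa [mul_assoc] using congrArg (fun z => c * z * c⁻¹) (eq_one_of_code h)) hx1
    obtain ⟨w, hwdef⟩ : ∃ w, w = o.2.2.2.getD (k - 1) (0, [], 0, 0) := ⟨_, rfl⟩
    rw [← hwdef] at hw ht et
    obtain ⟨y, hy⟩ : ∃ y, y = c⁻¹ * x * c := ⟨_, rfl⟩
    have hyK : y ∈ K := by simpa [hy] using hK c⁻¹ (inv_mem hc) x hxK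
    rw [← hy] at et
    refine ⟨(y * (Cos.ev mG w.2.1 * y ^ w.1 * (Cos.ev mG w.2.1)⁻¹)) ^ w.2.2.1,
      pow_mem (mul_mem hyK (hK _ (word_mem hw) _ (pow_mem hyK _))) _, w.2.2.2, ht, ?_⟩
    rw [← et]
    rw [code_odd_step]
  obtain ⟨hlen, x, hx, hat, c, hc, hcx⟩ := Inv.exists_at hC.inv k hk.1
  obtain rfl := Inv.At.eq hat hk
  obtain ⟨r, hr⟩ : ∃ r, r = Cos.ev mG (C.I.roots.getD (C.I.cls.at k) (0, [])).2 := ⟨_, rfl⟩
  rw [← hr] at hcx
  have hrK : r ∈ K := by
    have := hK c⁻¹ (inv_mem hc) x hzK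
    rwa [← hcx, inv_inv, show c⁻¹ * (c * r * c⁻¹) * c = r by group] at this
  have h := hC.axis_ok
  simp only [Inv.chkAxis, List.all_eq_true, List.mem_range, Bool.and_eq_true, Nat.blt_eq, Nat.beq_eq] at h
  obtain ⟨hws, e⟩ := h _ hlen
  obtain ⟨ws, hwsdef⟩ : ∃ ws, ws = C.axis.getD (C.I.cls.at k) [] := ⟨_, rfl⟩
  rw [← hwsdef] at hws e
  exact axis_of_word (code_axis) hrK (fun w => hK _ (word_mem w.2)) ws hws
    (fun z hz => by rw [hz, hr, code_ev, e])

end Mdl.OK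

end Cfsg.Agent.Recog.ThreeCentSp.Cert
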