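import Cfsg.Agent.Lib.Recog.ThreeCentSp.Cert.Model2
import Cfsg.Agent.Lib.Recog.ThreeCentSp.Cert.Bounds

/-! A group satisfying the relations is an image of the model, and a faithful one. -/

set_option autoImplicit false
set_option linter.style.haveILetI false

open Cfsg.Agent.Classical.SpSix (G0)
open Cfsg.Agent.Spor

namespace Cfsg.Agent.Recog.ThreeCentSp.Cert

/-- A group generated by pairs whose order is bounded gives a map from the second factor. -/
theorem exists_map {C : Mdl} (hC : C.OK) {G : Type*} [Group G] {X : Type*} [Group X] (p : X →* G) (q : X →* G0)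
    (x : ℕ → X) (hq : ∀ i < C.I.n, q (x i) = mG i)
    (hbound : Finite (Subgroup.closure (x '' Set.Iio C.I.n)) ∧ Nat.card (Subgroup.closure (x '' Set.Iio C.I.n)) ≤ C.N) :
    Nat.card (mS C.I.n) = C.N ∧ ∃ σ : mS C.I.n →* X, (∀ i (hi : i < C.I.n), σ ⟨mG i, mG_mem hi⟩ = x i) ∧
      (p.comp σ).range = Subgroup.closure ((fun i => p (x i)) '' Set.Iio C.I.n) := by
  obtain ⟨hfin, hcard⟩ := hbound
  haveI := hfin
  haveI : Finite G0 := Subtype.finite
  obtain ⟨D, hD⟩ : ∃ D, D = Subgroup.closure (x '' Set.Iio C.I.n) := ⟨_, rfl⟩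
  rw [← hD] at hfin hcard
  haveI := hfin
  have hmap : D.map q = mS C.I.n := by
    rw [hD, MonoidHom.map_closure, mS]
    congr 1
    ext z
    simp only [Set.mem_image, Set.mem_Iio]
    constructor
    · rintro ⟨_, ⟨i, hi, rfl⟩, rfl⟩; exact ⟨i, hi, (hq i hi).symm⟩
    · rintro ⟨i, hi, rfl⟩; exact ⟨_, ⟨i, hi, rfl⟩, hq i hi⟩
  let π : D →* mS C.I.n := (q.comp D.subtype).codRestrict (mS C.I.n) fun d =>
    hmap ▸ Subgroup.mem_map_of_mem q d.2
  have hπ : Function.Surjective π := by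
    rintro ⟨z, hz⟩
    rw [← hmap] at hz
    obtain ⟨d, hd, rfl⟩ := hz
    exact ⟨⟨d, hd⟩, rfl⟩
  have h1 := Nat.card_le_card_of_surjective π hπ
  have h2 := Nat.le_of_dvd Nat.card_pos hC.dvd_card
  have hN : Nat.card (mS C.I.n) = C.N := le_antisymm (h1.trans hcard) h2
  have hbij : Function.Bijective π :=
    (Nat.bijective_iff_surjective_and_card π).2 ⟨hπ, le_antisymm (hcard.trans_eq hN.symm) h1⟩
  obtain ⟨e, he⟩ : ∃ e : D ≃* mS C.I.n, ∀ d, e d = π d := ⟨MulEquiv.ofBijective π hbij, fun _ => rfl⟩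
  refine ⟨hN, D.subtype.comp e.symm.toMonoidHom, fun i hi => ?_, ?_⟩
  · have hm : x i ∈ D := hD ▸ Subgroup.subset_closure ⟨i, hi, rfl⟩
    have : e ⟨x i, hm⟩ = ⟨mG i, mG_mem hi⟩ := by rw [he]; exact Subtype.ext (hq i hi)
    rw [← this]
    show ((e.symm (e ⟨x i, hm⟩) : D) : X) = x i
    rw [e.symm_apply_apply]
  · rw [← MonoidHom.comp_assoc, MonoidHom.range_comp, MonoidHom.range_eq_top.2 e.symm.surjective,
      ← MonoidHom.range_eq_map, MonoidHom.range_comp, D.range_subtype, hD, MonoidHom.map_closure, Set.image_image]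

/-- The map is injective when the first axis does not die. -/
theorem injective_of_axis {C : Mdl} (hC : C.OK) (hN : Nat.card (mS C.I.n) = C.N) (h1 : 1 < C.I.n) {G : Type*}
    [Group G] (ψ : mS C.I.n →* G) (hne : ψ (⟨mG 0, mG_mem (by omega)⟩ * ⟨mG 1, mG_mem h1⟩) ≠ 1) :
    Function.Injective ψ := by
  rw [← MonoidHom.ker_eq_bot_iff]
  by_contra h
  refine hne (MonoidHom.mem_ker.1 ?_)
  have hmem := hC.axis_mem hN (K := ψ.ker.map (mS C.I.n).subtype) (Subgroup.map_subtype_le _) ?_ ?_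
  · obtain ⟨z, hz, e⟩ := hmem
    have ez : z = ⟨mG 0, mG_mem (by omega)⟩ * ⟨mG 1, mG_mem h1⟩ := Subtype.ext e
    rw [ez] at hz
    exact hz
  · intro c hc x hx
    obtain ⟨z, hz, rfl⟩ := Subgroup.mem_map.1 hx
    obtain ⟨d, hd⟩ : ∃ d : mS C.I.n, d = ⟨c, hc⟩ := ⟨_, rfl⟩
    refine Subgroup.mem_map.2 ⟨d * z * d⁻¹, ψ.normal_ker.conj_mem z hz d, ?_⟩
    simp only [Subgroup.coe_subtype, Subgroup.coe_mul, Subgroup.coe_inv, hd]
  · intro e
    exact h (Subgroup.map_injective (mS C.I.n).subtype_injective (e.trans (Subgroup.map_bot _).symm))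

theorem card_le_of_val {X : Type*} [Group X] {g h : ℕ → X} {L : List ℕ} {k n : ℕ}
    (hb : Cfsg.Agent.Spor.Cos.Bound g L k) (hL : ∀ i < n, i ∈ L) (hg : ∀ i < n, g i = h i) :
    Finite (Subgroup.closure (h '' Set.Iio n)) ∧ Nat.card (Subgroup.closure (h '' Set.Iio n)) ≤ k := by
  have hle : Subgroup.closure (h '' Set.Iio n) ≤ Cfsg.Agent.Spor.Cos.val g (Cfsg.Agent.Spor.Cos.singles L) := by
    refine (Subgroup.closure_le _).2 ?_
    rintro _ ⟨i, hi, rfl⟩
    rw [← hg i hi]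
    exact Cfsg.Agent.Spor.Cos.mem_single (hL i hi)
  obtain ⟨hf, hk⟩ := hb
  haveI := hf
  exact ⟨Finite.of_injective _ (Subgroup.inclusion_injective hle),
    (Nat.card_le_card_of_injective _ (Subgroup.inclusion_injective hle)).trans hk⟩

end Cfsg.Agent.Recog.ThreeCentSp.Cert
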