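import Cfsg.Agent.Lib.Recog.ThreeCentSp.Cert.SmallData

/-! Checks of a model. -/

set_option autoImplicit false
set_option maxRecDepth 100000

open Cfsg.Agent.Spor.Cos (allBlock of_allBlock)

namespace Cfsg.Agent.Recog.ThreeCentSp.Cert

theorem small_inv_0 : allBlock (Inv.chk smallInv) 891 256 0 = true := by decide +kernel

theorem small_inv_1 : allBlock (Inv.chk smallInv) 891 256 1 = true := by decide +kernel

theorem small_inv_2 : allBlock (Inv.chk smallInv) 891 256 2 = true := by decide +kernel

theorem small_inv_3 : allBlock (Inv.chk smallInv) 891 256 3 = true := by decide +kernel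

theorem small_inv : ∀ k < 891, (Inv.chk smallInv) k = true := by
  intro k hk
  refine of_allBlock (n := 891) (size := 256) (by decide) (fun j hj => ?_) hk
  have hj' : j < 4 := by omega
  interval_cases j
  · exact small_inv_0
  · exact small_inv_1
  · exact small_inv_2
  · exact small_inv_3

theorem small_two_0 : allBlock (Sub.chk smallP2 smallP2.gc) 128 128 0 = true := by decide +kernel

theorem small_two : ∀ k < 128, (Sub.chk smallP2 smallP2.gc) k = true := by
  intro k hk
  refine of_allBlock (n := 128) (size := 128) (by decide) (fun j hj => ?_) hk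
  have hj' : j < 1 := by omega
  interval_cases j
  · exact small_two_0

theorem small_hit_0 : allBlock (Inv.chkTwo smallInv smallP2 smallHit) 128 256 0 = true := by decide +kernel

theorem small_hit : ∀ k < 128, (Inv.chkTwo smallInv smallP2 smallHit) k = true := by
  intro k hk
  refine of_allBlock (n := 128) (size := 256) (by decide) (fun j hj => ?_) hk
  have hj' : j < 1 := by omega
  interval_cases j
  · exact small_hit_0

theorem small_P3_0 : allBlock (Sub.chk smallP3 smallP3.gc) 81 128 0 = true := by decide +kernel

theorem small_P3 : ∀ k < 81, (Sub.chk smallP3 smallP3.gc) k = true := by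
  intro k hk
  refine of_allBlock (n := 81) (size := 128) (by decide) (fun j hj => ?_) hk
  have hj' : j < 1 := by omega
  interval_cases j
  · exact small_P3_0

theorem small_odd3_0 : allBlock (Inv.chkOdd smallInv smallP3 smallP3Wit) 81 128 0 = true := by decide +kernel

theorem small_odd3 : ∀ k < 81, (Inv.chkOdd smallInv smallP3 smallP3Wit) k = true := by
  intro k hk
  refine of_allBlock (n := 81) (size := 128) (by decide) (fun j hj => ?_) hk
  have hj' : j < 1 := by omega
  interval_cases j
  · exact small_odd3_0

theorem small_P5_0 : allBlock (Sub.chk smallP5 smallP5.gc) 5 128 0 = true := by decide +kernel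

theorem small_P5 : ∀ k < 5, (Sub.chk smallP5 smallP5.gc) k = true := by
  intro k hk
  refine of_allBlock (n := 5) (size := 128) (by decide) (fun j hj => ?_) hk
  have hj' : j < 1 := by omega
  interval_cases j
  · exact small_P5_0

theorem small_odd5_0 : allBlock (Inv.chkOdd smallInv smallP5 smallP5Wit) 5 128 0 = true := by decide +kernel

theorem small_odd5 : ∀ k < 5, (Inv.chkOdd smallInv smallP5 smallP5Wit) k = true := by
  intro k hk
  refine of_allBlock (n := 5) (size := 128) (by decide) (fun j hj => ?_) hk
  have hj' : j < 1 := by omega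
  interval_cases j
  · exact small_odd5_0

theorem small_axis : Inv.chkAxis smallInv smallMdl.axis = true := by decide +kernel

theorem smallMdl_ok : smallMdl.OK where
  inv := small_inv
  pos := by decide +kernel
  two := small_two
  twoGens := by decide +kernel
  hit_ok := small_hit
  two_pow := by decide +kernel
  two_max := by decide +kernel
  odd_ok := by
    intro o ho
    simp only [smallMdl, List.mem_cons, List.not_mem_nil, or_false] at ho
    rcases ho with rfl | rfl
    · exact ⟨by norm_num, by decide +kernel, by decide +kernel, by decide +kernel, by decide +kernel,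
        small_P3, small_odd3⟩
    · exact ⟨by norm_num, by decide +kernel, by decide +kernel, by decide +kernel, by decide +kernel,
        small_P5, small_odd5⟩
  primes := by
    intro p hp hd
    have hd' : p ∣ 2 ^ 7 * 3 ^ 4 * 5 := hd
    have key : ∀ {r k : ℕ}, r.Prime → p ∣ r ^ k → p = r := fun hr h =>
      (Nat.prime_dvd_prime_iff_eq hp hr).1 (hp.dvd_of_dvd_pow h)
    rcases (Nat.Prime.dvd_mul hp).1 hd' with hd' | h
    rotate_left
    · exact Or.inr ⟨(5, 1, smallP5, smallP5Wit), by simp [smallMdl], ((Nat.prime_dvd_prime_iff_eq hp (by norm_num : Nat.Prime 5)).1 h).symm⟩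
    rcases (Nat.Prime.dvd_mul hp).1 hd' with h | h
    · exact Or.inl (key Nat.prime_two h)
    · exact Or.inr ⟨(3, 4, smallP3, smallP3Wit), by simp [smallMdl], (key Nat.prime_three h).symm⟩
  lcm := by
    intro S h2 ho
    have d3 : 81 ∣ S := ho (3, 4, smallP3, smallP3Wit) (by simp [smallMdl])
    have d5 : 5 ∣ S := ho (5, 1, smallP5, smallP5Wit) (by simp [smallMdl])
    have d2 : 128 ∣ S := h2
    show 51840 ∣ S
    exact (Nat.Coprime.mul_dvd_of_dvd_of_dvd (by norm_num) (Nat.Coprime.mul_dvd_of_dvd_of_dvd (by norm_num) d2 d3) d5)
  axis_ok := small_axis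

end Cfsg.Agent.Recog.ThreeCentSp.Cert
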