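import Cfsg.Agent.Lib.Recog.ThreeCentSp.Cert.SmallStates

/-! Checks of the states of a model. -/

set_option autoImplicit false
set_option maxRecDepth 100000

open Cfsg.Agent.Spor.Cos (allBlock of_allBlock)

namespace Cfsg.Agent.Recog.ThreeCentSp.Cert

theorem small_state0 : Inv.chkSt smallInv smallFus 0 = true := by decide +kernel

theorem small_state1 : Inv.chkSt smallInv smallFus 1 = true := by decide +kernel

theorem small_state2 : Inv.chkSt smallInv smallFus 2 = true := by decide +kernel

theorem small_state3 : Inv.chkSt smallInv smallFus 3 = true := by decide +kernel

theorem small_state4 : Inv.chkSt smallInv smallFus 4 = true := by decide +kernel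

theorem small_state5 : Inv.chkSt smallInv smallFus 5 = true := by decide +kernel

theorem small_state6 : Inv.chkSt smallInv smallFus 6 = true := by decide +kernel

theorem small_state7 : Inv.chkSt smallInv smallFus 7 = true := by decide +kernel

theorem small_root2_0 : allBlock (Inv.chkRoot smallInv smallFus 2) 891 1024 0 = true := by decide +kernel

theorem small_root2 : ∀ k < 891, (Inv.chkRoot smallInv smallFus 2) k = true := by
  intro k hk
  refine of_allBlock (n := 891) (size := 1024) (by decide) (fun j hj => ?_) hk
  have hj' : j < 1 := by omega
  interval_cases j
  · exact small_root2_0

theorem small_root3_0 : allBlock (Inv.chkRoot smallInv smallFus 3) 891 1024 0 = true := by decide +kernel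

theorem small_root3 : ∀ k < 891, (Inv.chkRoot smallInv smallFus 3) k = true := by
  intro k hk
  refine of_allBlock (n := 891) (size := 1024) (by decide) (fun j hj => ?_) hk
  have hj' : j < 1 := by omega
  interval_cases j
  · exact small_root3_0

theorem smallFus_ok : smallFus.OK smallInv where
  states := by
    intro i hi
    change i < 8 at hi
    interval_cases i
    · exact small_state0
    · exact small_state1
    · exact small_state2
    · exact small_state3
    · exact small_state4
    · exact small_state5
    · exact small_state6
    · exact small_state7
  root := by
    intro c hc hc' k hk
    change 2 ≤ c at hc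
    change c < 4 at hc'
    revert k
    interval_cases c
    · exact small_root2
    · exact small_root3
  three := by decide +kernel
  last := by decide +kernel
  base := by decide +kernel
  roots := by decide +kernel

end Cfsg.Agent.Recog.ThreeCentSp.Cert
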