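import Cfsg.Agent.Lib.Recog.ThreeCentSp.Cert.Pairs
import Cfsg.Agent.Lib.Recog.ThreeCentSp.Cert.Spread
import Cfsg.Agent.Lib.Recog.ThreeCentSp.Cert.SmallChecks
import Cfsg.Agent.Lib.Recog.ThreeCentSp.Cert.SmallFusion

/-! The certificate in the smaller case. -/

set_option autoImplicit false
set_option linter.style.haveILetI false

open Cfsg.Agent.Classical.SpSix (G0)
open Cfsg.Agent.Spor

namespace Cfsg.Agent.Recog.ThreeCentSp.Cert

/-- the sign of a letter -/
def sgn (i : ℕ) : Multiplicative (ZMod 2) := bif parity i then Multiplicative.ofAdd 1 else 1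

theorem sgn_five_ok : baseS.all (fun w => (w.map sgn).prod == 1) = true := by decide +kernel

theorem ev_sgn : ∀ w : List ℕ, Cos.ev sgn w = (w.map sgn).prod
  | [] => rfl
  | s :: w => by rw [Cos.ev, ev_sgn w, List.map_cons, List.prod_cons]

theorem baseS_model_ok : baseS.all (fun w => Nat.beq (evN mC w) oneN) = true := by decide +kernel

theorem mG_baseS : ∀ w ∈ baseS, Cos.ev mG w = 1 := fun w hw =>
  eq_one_of_code ((code_ev w).trans (Nat.eq_of_beq_eq_true (List.all_eq_true.1 baseS_model_ok w hw)))

theorem smallInv_n : smallMdl.I.n = 5 := rfl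

/-- The model maps onto the group generated by the five involutions, faithfully, and has a sign. -/
theorem small_model {G : Type*} [Group G] {g : ℕ → G} (h : RelS relJ relA relC g) :
    Nat.card (mS smallMdl.I.n) = 51840 ∧ ∃ ψ : mS smallMdl.I.n →* G, Function.Injective ψ ∧
      ψ.range = Subgroup.closure (g '' Set.Iio 5) ∧ (∀ i (hi : i < smallMdl.I.n), ψ ⟨mG i, mG_mem hi⟩ = g i) ∧
      ∃ χ : mS smallMdl.I.n →* Multiplicative (ZMod 2), Function.Surjective χ := by
  obtain ⟨x, hx⟩ : ∃ x : ℕ → (G × G0) × Multiplicative (ZMod 2), ∀ i, x i = ((g i, mG i), sgn i) :=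
    ⟨_, fun _ => rfl⟩
  let p : (G × G0) × Multiplicative (ZMod 2) →* G := (MonoidHom.fst _ _).comp (MonoidHom.fst _ _)
  let q : (G × G0) × Multiplicative (ZMod 2) →* G0 := (MonoidHom.snd _ _).comp (MonoidHom.fst _ _)
  let r : (G × G0) × Multiplicative (ZMod 2) →* Multiplicative (ZMod 2) := MonoidHom.snd _ _
  have hsgn2 : ∀ a : Multiplicative (ZMod 2), a * a = 1 := by decide
  have hsq : ∀ i < 5, x i * x i = 1 := fun i hi => by
    rw [hx]
    exact Prod.ext (Prod.ext (h.sq i hi) (mG_sq i)) (hsgn2 _)
  have hrel : ∀ w ∈ baseS, Cos.ev (cut 5 x) w = 1 := by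
    intro w hw
    rw [ev_cut 5 w (List.all_eq_true.1 baseS_below w hw)]
    refine Prod.ext (Prod.ext ?_ ?_) ?_
    · have e := Cos.ev_map p x w
      rw [show (fun s => p (x s)) = g from funext fun s => by rw [hx]; rfl] at e
      exact e.trans (base_of_RelS h w hw)
    · have e := Cos.ev_map q x w
      rw [show (fun s => q (x s)) = mG from funext fun s => by rw [hx]; rfl] at e
      exact e.trans (mG_baseS w hw)
    · have e := Cos.ev_map r x w
      rw [show (fun s => r (x s)) = sgn from funext fun s => by rw [hx]; rfl, ev_sgn] at e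
      exact e.trans (eq_of_beq (List.all_eq_true.1 sgn_five_ok w hw))
  have hb := card_le_of_val (h := x) (n := 5) (bound_five (g := cut 5 x) (cut_sq hsq) hrel)
    (fun i hi => List.mem_range.2 hi) fun i hi => by rw [cut, if_pos hi]
  obtain ⟨hN, σ, hσ, hrange⟩ := exists_map smallMdl_ok p q x (fun i _ => by rw [hx]; rfl) hb
  have hone : (1 : ℕ) < smallMdl.I.n := Nat.le.step (Nat.le.step (Nat.le.step Nat.le.refl))
  have hzero : (0 : ℕ) < smallMdl.I.n := Nat.lt_trans Nat.zero_lt_one hone
  have himg : ∀ i (hi : i < smallMdl.I.n), (p.comp σ) ⟨mG i, mG_mem hi⟩ = g i := fun i hi =>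
    (congrArg p (hσ i hi)).trans (by rw [hx]; rfl)
  refine ⟨hN, p.comp σ, injective_of_axis smallMdl_ok hN hone _ fun e => h.hne ?_, ?_, himg, r.comp σ, ?_⟩
  · exact (congrArg₂ (· * ·) (himg 0 hzero) (himg 1 hone)).symm.trans ((map_mul _ _ _).symm.trans e)
  · exact hrange.trans (congrArg Subgroup.closure (Set.image_congr fun i _ => by rw [hx]; rfl))
  · intro a
    have h0 : (r.comp σ) ⟨mG 0, mG_mem hzero⟩ = Multiplicative.ofAdd 1 :=
      (congrArg r (hσ 0 hzero)).trans (by rw [hx]; rfl)
    have : a = 1 ∨ a = Multiplicative.ofAdd 1 := by revert a; decide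
    rcases this with rfl | rfl
    · exact ⟨1, map_one _⟩
    · exact ⟨_, h0⟩

theorem small_card {G : Type*} [Group G] [Finite G] {g : ℕ → G} (h : RelS relJ relA relC g) :
    Nat.card (Subgroup.closure (g '' Set.Iio 5)) = 51840 ∧
      ∃ K : Subgroup (Subgroup.closure (g '' Set.Iio 5)), K.index = 2 := by
  obtain ⟨hN, ψ, hinj, hrange, -, χ, hχ⟩ := small_model h
  obtain ⟨e⟩ : Nonempty (mS smallMdl.I.n ≃* Subgroup.closure (g '' Set.Iio 5)) :=
    ⟨(MonoidHom.ofInjective hinj).trans (MulEquiv.subgroupCongr hrange)⟩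
  refine ⟨(Nat.card_congr e.toEquiv).symm.trans hN, (χ.comp e.symm.toMonoidHom).ker, ?_⟩
  rw [Subgroup.index_ker, MonoidHom.range_eq_top.2 (show Function.Surjective (χ.comp e.symm.toMonoidHom) from
    hχ.comp e.symm.surjective), Subgroup.card_top,
    Nat.card_eq_fintype_card, Fintype.card_multiplicative, ZMod.card]

theorem smallInv_root : ∀ c < 2, smallInv.inv.tbl.at (smallInv.roots.getD c (0, [])).1 = mC ([2, 0].getD c 0) := by
  decide +kernel

theorem small_top {G : Type*} [Group G] [Finite G] {g : ℕ → G} (h : RelS relJ relA relC g)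
    (hc : Controls (Subgroup.closure (g '' Set.Iio 5)) g)
    (hu : ∀ y, y * g 0 = g 0 * y → y ∈ Subgroup.closure (g '' Set.Iio 5)) :
    Subgroup.closure (g '' Set.Iio 5) = ⊤ := by
  obtain ⟨hN, ψ, hinj, hrange, himg, -⟩ := small_model h
  have A : Ambient smallInv smallFus (Subgroup.closure (g '' Set.Iio 5)) ψ :=
    { hI := smallMdl_ok.inv
      hF := smallFus_ok
      inj := hinj
      range := hrange
      all := fun x hx hx1 => smallMdl_ok.exists_index hN x.2 (congrArg Subtype.val hx)
        fun e => hx1 (Subtype.ext e)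
      three := fun w hw ho => hc.three w hw ho
      base := fun c hc' hlen => by
        obtain ⟨hr, -⟩ := smallFus_ok.roots c hlen
        have hc2 : c < 2 := hc'
        have hlt : [2, 0].getD c 0 < smallInv.n := by
          show [2, 0].getD c 0 < 5
          interval_cases c <;> simp
        have e : smallInv.elt (smallInv.roots.getD c (0, [])).1 = ⟨mG ([2, 0].getD c 0), mG_mem hlt⟩ :=
          Subtype.ext (code_injective ((Inv.elt_at smallMdl_ok.inv hr).2.trans
            ((smallInv_root c hc2).trans (code_mG _).symm)))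
        intro y hy
        have hy' := hy _ rfl
        have e' : ψ (smallInv.elt (smallInv.roots.getD c (0, [])).1) = g ([2, 0].getD c 0) :=
          (congrArg ψ e).trans (himg _ hlt)
        replace hy' : y * g ([2, 0].getD c 0) = g ([2, 0].getD c 0) * y :=
          (congrArg (y * ·) e').symm.trans (hy'.trans (congrArg (· * y) e'))
        interval_cases c
        · exact hc.swap y hy'
        · exact hu y hy' }
  exact A.eq_top (by decide) (c := 3) (by decide) (by decide)

end Cfsg.Agent.Recog.ThreeCentSp.Cert
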