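import Cfsg.Agent.Lib.Recog.ThreeCentSp.Cert.States
import Cfsg.Agent.Lib.Recog.ThreeCentSp.Cert.SmallData

/-! The states of a model. -/

set_option autoImplicit false
set_option maxRecDepth 100000

open Cfsg.Agent.Spor.Cos (Tree Table allBlock of_allBlock)

namespace Cfsg.Agent.Recog.ThreeCentSp.Cert

/-- the involutions around state 0 -/
def smallK0 : List (ℕ × ℕ × List ℕ) := [
    (0, 0, [0, 0]), (38, 0, [0, 38]), (43, 0, [0, 43]), (54, 0, [0, 54]), (62, 0, [0, 62]),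
    (138, 0, [2, 0]), (474, 0, [1, 0]), (538, 0, [1, 43]), (545, 0, [2, 43]), (758, 0, [1, 62]),
    (804, 0, [3, 43]), (888, 0, [3, 0])]

/-- the involutions around state 1 -/
def smallK1 : List (ℕ × ℕ × List ℕ) := [
    (0, 0, [0, 0]), (38, 0, [0, 38]), (43, 0, [0, 43]), (54, 0, [0, 54]), (62, 0, [0, 62]),
    (93, 0, [2, 0]), (474, 0, [1, 0]), (538, 0, [1, 43]), (545, 0, [3, 62]), (631, 0, [3, 0]),
    (758, 0, [1, 62]), (804, 0, [2, 62])]

/-- the involutions around state 2 -/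
def smallK2 : List (ℕ × ℕ × List ℕ) := [
    (0, 0, [0, 0]), (38, 0, [0, 38]), (43, 0, [0, 43]), (54, 0, [0, 54]), (62, 0, [0, 62]),
    (93, 0, [2, 43]), (138, 0, [3, 62]), (474, 0, [1, 0]), (538, 0, [1, 43]), (631, 0, [3, 43]),
    (758, 0, [1, 62]), (888, 0, [2, 62])]

/-- the involutions around state 3 -/
def smallK3 : List (ℕ × ℕ × List ℕ) := [
    (0, 0, [0, 0]), (38, 0, [0, 38]), (43, 0, [0, 43]), (54, 0, [0, 54]), (62, 0, [0, 62]),
    (93, 1, [2, 1, 3]), (138, 2, [2, 1, 3]), (474, 0, [1, 0]), (538, 0, [1, 43]), (545, 3, [2, 1, 3]),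
    (631, 1, [2, 3, 1]), (758, 0, [1, 62]), (804, 3, [2, 3, 1]), (888, 2, [2, 3, 1])]

/-- the involutions around state 4 -/
def smallK4 : List (ℕ × ℕ × List ℕ) := [
    (38, 0, [0, 38]), (45, 0, [0, 45]), (47, 0, [0, 47]), (52, 0, [0, 52]), (60, 0, [0, 60]),
    (86, 0, [0, 86]), (96, 0, [0, 96]), (116, 0, [0, 116]), (174, 0, [0, 174]), (801, 0, [1, 38]),
    (806, 0, [3, 38]), (834, 0, [2, 38])]

/-- the involutions around state 5 -/
def smallK5 : List (ℕ × ℕ × List ℕ) := [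
    (0, 0, [0, 0]), (1, 0, [0, 1]), (6, 0, [0, 6]), (38, 0, [0, 38]), (43, 0, [0, 43]),
    (624, 0, [3, 43]), (631, 0, [2, 43]), (724, 0, [2, 6]), (758, 0, [3, 6]), (801, 0, [1, 38]),
    (883, 0, [1, 43]), (888, 0, [1, 6])]

/-- the involutions around state 6 -/
def smallK6 : List (ℕ × ℕ × List ℕ) := [
    (38, 0, [0, 38]), (45, 0, [0, 45]), (47, 0, [0, 47]), (52, 0, [0, 52]), (60, 0, [0, 60]),
    (86, 0, [0, 86]), (96, 0, [0, 96]), (116, 0, [0, 116]), (174, 0, [0, 174]), (623, 0, [3, 38]),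
    (629, 0, [2, 38]), (801, 0, [1, 38])]

/-- the involutions around state 7 -/
def smallK7 : List (ℕ × ℕ × List ℕ) := [
    (0, 0, [0, 0]), (1, 0, [0, 1]), (38, 0, [0, 38]), (45, 0, [0, 45]), (47, 0, [0, 47]),
    (52, 0, [0, 52]), (60, 0, [0, 60]), (86, 0, [0, 86]), (96, 0, [0, 96]), (116, 0, [0, 116]),
    (145, 0, [0, 145]), (174, 0, [0, 174]), (218, 0, [0, 218]), (303, 0, [0, 303]), (459, 0, [0, 459]),
    (623, 5, [2, 1, 3]), (629, 5, [2, 3, 1]), (801, 0, [1, 38]), (804, 6, [2, 1, 3]),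
    (806, 7, [2, 1, 3]), (834, 7, [2, 3, 1]), (862, 6, [2, 3, 1])]

/-- involutions centralising a representative -/
def smallRoot0 : List ℕ := []

/-- involutions centralising a representative -/
def smallRoot1 : List ℕ := []

/-- involutions centralising a representative -/
def smallRoot2 : List ℕ := [
    0, 3, 10, 37, 38, 43, 44, 54, 62, 67, 72, 90, 93, 105, 112, 138, 153, 246, 370, 379, 385, 424, 454,
    474, 538, 545, 631, 644, 670, 671, 673, 693, 725, 758, 804, 865, 884, 888]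

/-- involutions centralising a representative -/
def smallRoot3 : List ℕ := [
    0, 1, 6, 38, 43, 45, 47, 52, 57, 60, 65, 68, 79, 86, 96, 116, 131, 145, 165, 172, 174, 188, 199,
    218, 229, 241, 244, 264, 303, 306, 313, 357, 359, 374, 418, 459, 476, 623, 624, 629, 631, 637, 651,
    660, 687, 712, 724, 743, 758, 801, 804, 806, 834, 860, 862, 878, 883, 888]

/-- the states -/
def smallStates : List St := [
  ⟨2, [81, 93, 631], 0, 38, 0, 891,
    [(1, 474, 54), (0, 474, 38), (0, 138, 38), (0, 888, 38)],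
    [(0, 474, 0), (0, 138, 0), (0, 888, 0)], smallK0⟩,
  ⟨2, [81, 138, 888], 0, 38, 0, 891,
    [(1, 474, 54), (0, 474, 38), (0, 93, 38), (0, 631, 38)],
    [(0, 474, 0), (0, 93, 0), (0, 631, 0)], smallK1⟩,
  ⟨2, [81, 545, 804], 0, 43, 0, 891,
    [(2, 54, 93), (0, 474, 43), (0, 54, 43), (1, 54, 538)],
    [(0, 474, 0), (0, 54, 0), (1, 54, 474)], smallK2⟩,
  ⟨2, [81], 0, 38, 0, 891,
    [(1, 474, 54), (0, 474, 38)],
    [(0, 474, 0)], smallK3⟩,
  ⟨3, [621, 623, 629], 38, 45, 38, 891,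
    [(0, 38, 45), (0, 801, 45), (0, 834, 45), (0, 806, 45)],
    [(0, 801, 38), (0, 834, 38), (0, 806, 38)], smallK4⟩,
  ⟨3, [621, 804, 862], 6, 0, 0, 891,
    [(1, 888, 1), (0, 888, 0), (0, 724, 0), (0, 758, 0)],
    [(0, 888, 6), (0, 724, 6), (0, 758, 6)], smallK5⟩,
  ⟨3, [621, 806, 834], 38, 45, 38, 891,
    [(0, 38, 45), (0, 801, 45), (0, 629, 45), (0, 623, 45)],
    [(0, 801, 38), (0, 629, 38), (0, 623, 38)], smallK6⟩,
  ⟨3, [621], 52, 0, 0, 891,
    [(0, 52, 0), (0, 174, 0)],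
    [(0, 174, 52)], smallK7⟩]

/-- the table of states -/
def smallFus : Fus :=
  ⟨smallStates, [smallRoot0, smallRoot1, smallRoot2, smallRoot3], [[0, 1, 2, 0, 1, 2], [2, 0, 1, 2], [2, 3], [3, 2, 0, 1, 2, 3]], 2, [0, 0, 3, 7]⟩

end Cfsg.Agent.Recog.ThreeCentSp.Cert
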