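import Cfsg.Agent.Lib.Recog.ThreeCentSp.Cert.Model2
import Cfsg.Agent.Lib.Recog.ThreeCentSp.Cert.Control

/-! The certificates for the control of centralisers of involutions. -/

set_option autoImplicit false
set_option linter.style.haveILetI false

open Cfsg.Agent.Classical.SpSix (G0)
open Cfsg.Agent.Spor
open Cfsg.Agent.Spor.Cos (force)

namespace Cfsg.Agent.Recog.ThreeCentSp.Cert

/-- A state: control of the centraliser of the involutions `E`, all classes below `cls` being controlled. -/
structure St where
  /-- the class treated -/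
  cls : ℕ
  /-- the generators besides the identity -/
  E : List ℕ
  /-- the involution `j` -/
  j : ℕ
  /-- the involution `u` -/
  u : ℕ
  /-- the special element, an involution or a product of two -/
  sa : ℕ
  /-- the second factor, or the number of involutions -/
  sb : ℕ
  /-- witnesses against fusing `u` with a member of the coset of `j` -/
  wa : List (ℕ × ℕ × ℕ)
  /-- witnesses against fusing `j` within its coset -/
  wb : List (ℕ × ℕ × ℕ)
  /-- the involutions centralising everything, with the reasons -/
  K : List (ℕ × ℕ × List ℕ)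

/-- A table of states. -/
structure Fus where
  /-- the states -/
  states : List St
  /-- involutions centralising the representatives -/
  croot : List (List ℕ)
  /-- elements of order three centralising the representatives -/
  three : List (List ℕ)
  /-- the classes controlled from the start -/
  nbase : ℕ
  /-- the last state of each class -/
  last : List ℕ

namespace Inv

variable (I : Inv)

/-- the number of an involution, the number of involutions standing for the identity -/
def iC (k : ℕ) : ℕ := bif Nat.blt k I.nI then I.inv.tbl.at k else oneN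

/-- its class -/
def iCls (k : ℕ) : ℕ := bif Nat.blt k I.nI then I.cls.at k else I.roots.length

/-- the number of the element of a set of a state -/
def eC (E : List ℕ) (a : ℕ) : ℕ := bif Nat.beq a 0 then oneN else I.inv.tbl.at (E.getD (a - 1) 0)

/-- a witness that `x * e_b` and `y * e_b` lie in different classes -/
def chkWit (x y : ℕ) (E : List ℕ) (w : ℕ × ℕ × ℕ) : Bool :=
  Nat.ble w.1 E.length && Nat.ble w.2.1 I.nI && Nat.ble w.2.2 I.nI && force (I.eC E w.1) fun e =>
    Nat.beq (I.iC w.2.1) (mulN x e) && Nat.beq (I.iC w.2.2) (mulN y e) &&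
      !Nat.beq (I.iCls w.2.1) (I.iCls w.2.2)

/-- a reason for one more involution -/
def chkKid (F : Fus) (i : ℕ) (S : St) (k : ℕ × ℕ × List ℕ) : Bool :=
  Nat.blt k.1 I.nI && bif Nat.beq k.2.1 0 then
    (fun a t => Nat.ble a S.E.length && Nat.blt t I.nI && Nat.blt (I.cls.at t) S.cls &&
      Nat.beq (I.inv.tbl.at t) (mulN (I.inv.tbl.at k.1) (I.eC S.E a))) (k.2.2.getD 0 0) (k.2.2.getD 1 0)
  else
    (fun T : St => Nat.blt (k.2.1 - 1) i && Nat.beq T.cls S.cls &&
      (List.range T.E.length).all fun f => (fun a => Nat.ble (a / 2) S.E.length &&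
        Nat.beq (I.inv.tbl.at (T.E.getD f 0)) (bif Nat.beq (a % 2) 0 then I.eC S.E (a / 2)
          else mulN (I.inv.tbl.at k.1) (I.eC S.E (a / 2)))) (k.2.2.getD f 0))
      (F.states.getD (k.2.1 - 1) S)

/-- the special element -/
def sC (S : St) : ℕ := mulN (I.iC S.sa) (I.iC S.sb)

/-- the checks of the shape of a state -/
def chkShape (S : St) : Bool :=
  Nat.blt S.cls I.roots.length && (S.E.all fun e => Nat.blt e I.nI) && Nat.blt S.j I.nI && Nat.blt S.u I.nI &&
    Nat.blt S.sa I.nI && Nat.ble S.sb I.nI && S.E.contains (I.roots.getD S.cls (0, [])).1 &&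
    Nat.blt (I.cls.at S.u) S.cls && !S.E.contains S.j &&
    (S.E.all fun e => comN (I.inv.tbl.at S.j) (I.inv.tbl.at e) && comN (I.inv.tbl.at S.u) (I.inv.tbl.at e) &&
      comN (I.sC S) (I.inv.tbl.at e)) && comN (I.sC S) (I.inv.tbl.at S.j) &&
    bif Nat.beq S.sb I.nI then Nat.blt (I.cls.at S.sa) S.cls
    else Nat.beq (powN (I.sC S) 3) oneN && !Nat.beq (I.sC S) oneN

/-- the checks against fusion -/
def chkFusion (S : St) : Bool :=
  force (I.inv.tbl.at S.j) fun j => force (I.inv.tbl.at S.u) fun u =>
    ((List.range (S.E.length + 1)).all fun a => I.chkWit (mulN j (I.eC S.E a)) u S.E (S.wa.getD a (0, 0, 0))) &&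
      (List.range S.E.length).all fun a => I.chkWit (mulN j (I.eC S.E (a + 1))) j S.E (S.wb.getD a (0, 0, 0))

/-- all involutions are accounted for -/
def chkAll (F : Fus) (S : St) : Bool :=
  force (I.inv.tbl.at S.j) fun j => (((I.roots.getD S.cls (0, [])).1 :: F.croot.getD S.cls [])).all fun k =>
    force (I.inv.tbl.at k) fun x => S.E.contains k || !(comN x j && S.E.all fun e => comN x (I.inv.tbl.at e)) ||
      S.K.any fun t => Nat.beq t.1 k

/-- all checks of a state -/
def chkSt (F : Fus) (i : ℕ) : Bool :=
  (fun S => I.chkShape S && I.chkFusion S && I.chkAll F S && S.K.all fun k => I.chkKid F i S k)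
    (F.states.getD i ⟨I.roots.length, [], 0, 0, 0, 0, [], [], []⟩)

/-- the involutions centralising a representative -/
def chkRoot (F : Fus) (c k : ℕ) : Bool :=
  force (I.inv.tbl.at k) fun x => Nat.beq k (I.roots.getD c (0, [])).1 ||
    !comN x (I.inv.tbl.at (I.roots.getD c (0, [])).1) || (F.croot.getD c []).contains k

/-- an element of order three centralising each representative -/
def chkThree (F : Fus) : Bool :=
  (List.range I.roots.length).all fun c => (fun w : List ℕ =>
    w.all (fun s => Nat.blt s I.n) && force (evN mC w) fun x => Nat.beq (powN x 3) oneN && !Nat.beq x oneN &&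
      comN x (I.inv.tbl.at (I.roots.getD c (0, [])).1)) (F.three.getD c [])

/-- the last state of a class is about the representative alone -/
def chkLast (F : Fus) (c : ℕ) : Bool :=
  (fun S : St => Nat.blt (F.last.getD c 0) F.states.length && Nat.beq S.cls c &&
    (S.E == [(I.roots.getD c (0, [])).1]))
    (F.states.getD (F.last.getD c 0) ⟨I.roots.length, [], 0, 0, 0, 0, [], [], []⟩)

end Inv

/-- All checks of the table. -/
structure Fus.OK (F : Fus) (I : Inv) : Prop where
  states : ∀ i < F.states.length, I.chkSt F i = true
  root : ∀ c, F.nbase ≤ c → c < I.roots.length → ∀ k < I.nI, I.chkRoot F c k = true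
  three : I.chkThree F = true
  last : ∀ c, F.nbase ≤ c → c < I.roots.length → I.chkLast F c = true
  base : ∀ i < F.states.length, F.nbase ≤ (F.states.getD i ⟨I.roots.length, [], 0, 0, 0, 0, [], [], []⟩).cls
  roots : ∀ c < I.roots.length, (I.roots.getD c (0, [])).1 < I.nI ∧ I.cls.at (I.roots.getD c (0, [])).1 = c

end Cfsg.Agent.Recog.ThreeCentSp.Cert
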